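import Mathlib

/-!
Finite groups in which the centralizer of every involution is abelian: the basic geometry.
The points are the centralizers of involutions; the group acts on them by conjugation.
-/

set_option autoImplicit false
set_option linter.unusedSectionVars false
set_option linter.unusedVariables false
set_option linter.style.haveILetI false

namespace Cfsg.Agent.Lib.InvCent

universe u

/-- Centralizers of involutions are abelian; some two distinct involutions commute, and some two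
involutions do not commute. -/
structure Hyp (G : Type u) [Group G] : Prop where
  comm : ∀ t x y : G, orderOf t = 2 → Commute x t → Commute y t → Commute x y
  ex_comm : ∃ t t' : G, orderOf t = 2 ∧ orderOf t' = 2 ∧ t ≠ t' ∧ Commute t t'
  ex_non : ∃ s s' : G, orderOf s = 2 ∧ orderOf s' = 2 ∧ ¬ Commute s s'

/-- The points: centralizers of involutions. -/
def Pt (G : Type u) [Group G] : Type u :=
  {A : Subgroup G // ∃ t : G, orderOf t = 2 ∧ A = Subgroup.centralizer ({t} : Set G)}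

variable {G : Type u} [Group G]

instance [Finite G] : Finite (Pt G) := by
  unfold Pt
  infer_instance

theorem mem_cent {x t : G} : x ∈ Subgroup.centralizer ({t} : Set G) ↔ Commute x t := by
  rw [Subgroup.mem_centralizer_singleton_iff]
  exact Iff.rfl

theorem orderOf_conj (g t : G) : orderOf (g * t * g⁻¹) = orderOf t := by
  have := orderOf_injective (MulAut.conj g).toMonoidHom (MulAut.conj g).injective t
  simpa using this

theorem map_cent (g t : G) :
    (Subgroup.centralizer ({t} : Set G)).map (MulAut.conj g).toMonoidHom =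
      Subgroup.centralizer ({g * t * g⁻¹} : Set G) := by
  ext x
  rw [Subgroup.mem_map, mem_cent]
  constructor
  · rintro ⟨y, hy, rfl⟩
    rw [mem_cent] at hy
    exact (Commute.conj_iff g).mpr hy
  · intro hx
    refine ⟨g⁻¹ * x * g, ?_, ?_⟩
    · rw [mem_cent]
      apply (Commute.conj_iff g).mp
      have : g * (g⁻¹ * x * g) * g⁻¹ = x := by group
      rw [this]
      exact hx
    · simp [MulAut.conj_apply]
      group

instance : MulAction G (Pt G) where
  smul g a := ⟨a.1.map (MulAut.conj g).toMonoidHom, by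
    obtain ⟨t, ht, h⟩ := a.2
    exact ⟨g * t * g⁻¹, by rw [orderOf_conj, ht], by rw [h, map_cent]⟩⟩
  one_smul a := by
    apply Subtype.ext
    show a.1.map (MulAut.conj (1 : G)).toMonoidHom = a.1
    ext x
    simp
  mul_smul g k a := by
    apply Subtype.ext
    show a.1.map (MulAut.conj (g * k)).toMonoidHom =
      (a.1.map (MulAut.conj k).toMonoidHom).map (MulAut.conj g).toMonoidHom
    rw [Subgroup.map_map]
    congr 1
    ext x
    simp [MulAut.conj_apply, mul_assoc]

theorem smul_val (g : G) (a : Pt G) : (g • a).1 = a.1.map (MulAut.conj g).toMonoidHom := rfl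

theorem conj_mem_smul {g x : G} {a : Pt G} (h : x ∈ a.1) : g * x * g⁻¹ ∈ (g • a).1 := by
  rw [smul_val, Subgroup.mem_map]
  exact ⟨x, h, by simp [MulAut.conj_apply]⟩

theorem mem_smul {g x : G} {a : Pt G} : x ∈ (g • a).1 ↔ g⁻¹ * x * g ∈ a.1 := by
  constructor
  · intro h
    rw [smul_val, Subgroup.mem_map] at h
    obtain ⟨y, hy, rfl⟩ := h
    simpa [MulAut.conj_apply, mul_assoc] using hy
  · intro h
    have := conj_mem_smul (g := g) h
    have h2 : g * (g⁻¹ * x * g) * g⁻¹ = x := by group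
    rwa [h2] at this

/-- The point of an involution. -/
def pt (t : G) (ht : orderOf t = 2) : Pt G := ⟨Subgroup.centralizer ({t} : Set G), t, ht, rfl⟩

theorem mem_pt {t x : G} {ht : orderOf t = 2} : x ∈ (pt t ht).1 ↔ Commute x t := mem_cent

theorem self_mem_pt {t : G} (ht : orderOf t = 2) : t ∈ (pt t ht).1 := mem_pt.2 (Commute.refl t)

theorem exists_inv (a : Pt G) : ∃ t : G, orderOf t = 2 ∧ t ∈ a.1 := by
  obtain ⟨t, ht, h⟩ := a.2
  refine ⟨t, ht, ?_⟩
  rw [h]
  exact mem_cent.2 (Commute.refl t)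

theorem mul_self_of_inv {t : G} (ht : orderOf t = 2) : t * t = 1 := by
  have := pow_orderOf_eq_one t
  rw [ht, pow_two] at this
  exact this

theorem inv_of_inv {t : G} (ht : orderOf t = 2) : t⁻¹ = t :=
  inv_eq_of_mul_eq_one_left (mul_self_of_inv ht)

theorem orderOf_two_of {t : G} (h1 : t ≠ 1) (h2 : t * t = 1) : orderOf t = 2 := by
  haveI : Fact (Nat.Prime 2) := ⟨Nat.prime_two⟩
  apply orderOf_eq_prime
  · rw [pow_two]
    exact h2
  · exact h1

namespace Hyp

variable (h : Hyp G)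
include h

theorem eq_pt {t : G} (ht : orderOf t = 2) {a : Pt G} (hta : t ∈ a.1) : a = pt t ht := by
  obtain ⟨t₀, ht₀, ha⟩ := a.2
  apply Subtype.ext
  show a.1 = Subgroup.centralizer ({t} : Set G)
  rw [ha] at hta ⊢
  rw [mem_cent] at hta
  ext x
  rw [mem_cent, mem_cent]
  constructor
  · intro hx
    exact h.comm t₀ x t ht₀ hx hta
  · intro hx
    exact h.comm t x t₀ ht hx hta.symm

theorem mem_iff {t : G} (ht : orderOf t = 2) {a : Pt G} (hta : t ∈ a.1) {x : G} :
    x ∈ a.1 ↔ Commute x t := by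
  rw [h.eq_pt ht hta]
  exact mem_pt

theorem comm_of_mem (a : Pt G) {x y : G} (hx : x ∈ a.1) (hy : y ∈ a.1) : Commute x y := by
  obtain ⟨t, ht, hta⟩ := exists_inv a
  exact h.comm t x y ht ((h.mem_iff ht hta).1 hx) ((h.mem_iff ht hta).1 hy)

theorem eq_of_inv_mem {t : G} (ht : orderOf t = 2) {a b : Pt G} (ha : t ∈ a.1) (hb : t ∈ b.1) :
    a = b := by
  rw [h.eq_pt ht ha, h.eq_pt ht hb]

theorem not_comm {a b : Pt G} (hab : a ≠ b) {t t' : G} (ht : orderOf t = 2) (ht' : orderOf t' = 2)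
    (hta : t ∈ a.1) (htb : t' ∈ b.1) : ¬ Commute t t' := by
  intro hc
  apply hab
  have h1 : t' ∈ a.1 := (h.mem_iff ht hta).2 hc.symm
  exact h.eq_of_inv_mem ht' h1 htb

theorem smul_eq_of_conj_mem {t g : G} (ht : orderOf t = 2) {a b : Pt G} (hta : t ∈ a.1)
    (hgt : g * t * g⁻¹ ∈ b.1) : g • a = b :=
  h.eq_of_inv_mem (t := g * t * g⁻¹) (by rw [orderOf_conj, ht]) (conj_mem_smul hta) hgt

theorem smul_eq_of_mem {a : Pt G} {y : G} (hy : y ∈ a.1) : y • a = a := by
  obtain ⟨t, ht, hta⟩ := exists_inv a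
  apply h.smul_eq_of_conj_mem ht hta
  have h1 := (h.mem_iff ht hta).1 hy
  have h2 : y * t * y⁻¹ = t := by
    rw [h1.eq]
    group
  rwa [h2]

theorem conj_mem_of_fix {a : Pt G} {g x : G} (hg : g • a = a) (hx : x ∈ a.1) :
    g * x * g⁻¹ ∈ a.1 := by
  have := conj_mem_smul (g := g) hx
  rwa [hg] at this

theorem odd_order_mul {t t' : G} (ht : orderOf t = 2) (ht' : orderOf t' = 2)
    (hn : ¬ Commute t t') [Finite G] : Odd (orderOf (t * t')) := by
  by_contra hodd
  rw [Nat.not_odd_iff_even] at hodd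
  obtain ⟨k, hk⟩ := hodd
  have hpos : 0 < orderOf (t * t') := orderOf_pos _
  have hk0 : k ≠ 0 := by omega
  set g := t * t' with hg
  set w := g ^ k with hw
  have hw1 : w ≠ 1 := pow_ne_one_of_lt_orderOf hk0 (by omega)
  have hw2 : w * w = 1 := by
    rw [hw, ← pow_add, ← hk, pow_orderOf_eq_one]
  have hword : orderOf w = 2 := orderOf_two_of hw1 hw2
  have hwinv : w⁻¹ = w := inv_of_inv hword
  have htt := mul_self_of_inv ht
  have htt' := mul_self_of_inv ht'
  have hti := inv_of_inv ht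
  have hti' := inv_of_inv ht'
  have h1 : t * g * t⁻¹ = g⁻¹ := by
    rw [hg, mul_inv_rev, hti, hti', ← mul_assoc t t t', htt, one_mul]
  have h2 : t' * g * t'⁻¹ = g⁻¹ := by
    rw [hg, mul_inv_rev, hti, hti']
    calc t' * (t * t') * t' = t' * t * (t' * t') := by group
      _ = t' * t := by rw [htt', mul_one]
  have h3 : t * w * t⁻¹ = w := by
    rw [hw, ← conj_pow, h1, inv_pow, ← hw, hwinv]
  have h4 : t' * w * t'⁻¹ = w := by
    rw [hw, ← conj_pow, h2, inv_pow, ← hw, hwinv]
  have c1 : Commute t w := by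
    show t * w = w * t
    calc t * w = t * w * t⁻¹ * t := by group
      _ = w * t := by rw [h3]
  have c2 : Commute t' w := by
    show t' * w = w * t'
    calc t' * w = t' * w * t'⁻¹ * t' := by group
      _ = w * t' := by rw [h4]
  exact hn (h.comm w t t' hword c1 c2)

theorem exists_swap [Finite G] {t t' : G} (ht : orderOf t = 2) (ht' : orderOf t' = 2)
    (hn : ¬ Commute t t') :
    ∃ u : G, orderOf u = 2 ∧ u * t * u = t' ∧ ∀ x : G, Commute x t → Commute x t' → Commute x u := by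
  obtain ⟨k, hk⟩ := h.odd_order_mul ht ht' hn
  set g := t * t' with hg
  set r := g ^ (k + 1) with hr
  have hrr : r * r = g := by
    rw [hr, ← pow_add]
    have : k + 1 + (k + 1) = orderOf g + 1 := by omega
    rw [this, pow_succ, pow_orderOf_eq_one, one_mul]
  have htt := mul_self_of_inv ht
  have htt' := mul_self_of_inv ht'
  have hti := inv_of_inv ht
  have hti' := inv_of_inv ht'
  have h1 : t * g * t⁻¹ = g⁻¹ := by
    rw [hg, mul_inv_rev, hti, hti', ← mul_assoc t t t', htt, one_mul]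
  have h3 : t * r * t⁻¹ = r⁻¹ := by
    rw [hr, ← conj_pow, h1, inv_pow]
  have h3' : t * r * t = r⁻¹ := by rw [← h3, hti]
  refine ⟨t * r, orderOf_two_of ?_ ?_, ?_, ?_⟩
  · intro h0
    apply hn
    have h5 : r = t := by
      have : r = t⁻¹ := eq_inv_of_mul_eq_one_right h0
      rw [this, hti]
    have h6 : g = 1 := by rw [← hrr, h5, htt]
    have h7 : t' = t := by
      have : t * t' = 1 := h6
      have h8 : t' = t⁻¹ := eq_inv_of_mul_eq_one_right this
      rw [h8, hti]
    rw [h7]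
  · calc t * r * (t * r) = (t * r * t) * r := by group
      _ = 1 := by rw [h3', inv_mul_cancel]
  · calc t * r * t * (t * r) = (t * r) * (t * t) * r := by group
      _ = t * (r * r) := by rw [htt]; group
      _ = t' := by rw [hrr, hg, ← mul_assoc, htt, one_mul]
  · intro x hx hx'
    apply hx.mul_right
    apply Commute.pow_right
    exact hx.mul_right hx'

theorem swap_of_inv [Finite G] {a b : Pt G} (hab : a ≠ b) {t t' : G} (ht : orderOf t = 2)
    (ht' : orderOf t' = 2) (hta : t ∈ a.1) (htb : t' ∈ b.1) :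
    ∃ u : G, orderOf u = 2 ∧ u * t * u = t' ∧ u • a = b ∧ u • b = a ∧
      ∀ x : G, Commute x t → Commute x t' → Commute x u := by
  obtain ⟨u, hu, h1, h2⟩ := h.exists_swap ht ht' (h.not_comm hab ht ht' hta htb)
  have hua : u • a = b := by
    apply h.smul_eq_of_conj_mem ht hta
    rw [inv_of_inv hu, h1]
    exact htb
  refine ⟨u, hu, h1, hua, ?_, h2⟩
  rw [← hua, ← mul_smul, mul_self_of_inv hu, one_smul]

theorem swap_pts [Finite G] {a b : Pt G} (hab : a ≠ b) :
    ∃ u : G, orderOf u = 2 ∧ u • a = b ∧ u • b = a := by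
  obtain ⟨t, ht, hta⟩ := exists_inv a
  obtain ⟨t', ht', htb⟩ := exists_inv b
  obtain ⟨u, hu, -, h1, h2, -⟩ := h.swap_of_inv hab ht ht' hta htb
  exact ⟨u, hu, h1, h2⟩

theorem exists_smul [Finite G] (a b : Pt G) : ∃ g : G, g • a = b := by
  by_cases hab : a = b
  · exact ⟨1, by rw [one_smul, hab]⟩
  · obtain ⟨u, -, h1, -⟩ := h.swap_pts hab
    exact ⟨u, h1⟩

/-- An involution fixes only its own point. -/
theorem mem_of_fix {w : G} (hw : orderOf w = 2) {a : Pt G} (hwa : w • a = a) : w ∈ a.1 := by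
  obtain ⟨t, ht, hta⟩ := exists_inv a
  set t₁ := w * t * w with ht₁
  have hwi := inv_of_inv hw
  have hww := mul_self_of_inv hw
  have h1 : t₁ ∈ a.1 := by
    have := h.conj_mem_of_fix hwa hta
    rwa [hwi] at this
  have hc : Commute t t₁ := h.comm_of_mem a hta h1
  by_cases heq : t₁ = t
  · apply (h.mem_iff ht hta).2
    show w * t = t * w
    calc w * t = w * t * w * w := by rw [mul_assoc (w * t), hww, mul_one]
      _ = t * w := by rw [← ht₁, heq]
  · have htt := mul_self_of_inv ht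
    have ht₁o : orderOf t₁ = 2 := by
      have := orderOf_conj w t
      rwa [hwi, ← ht₁, ht] at this
    have ht₁₁ := mul_self_of_inv ht₁o
    have hs : t * t₁ ≠ 1 := by
      intro h0
      apply heq
      have : t₁ = t⁻¹ := eq_inv_of_mul_eq_one_right h0
      rw [this, inv_of_inv ht]
    have hss : t * t₁ * (t * t₁) = 1 := by
      calc t * t₁ * (t * t₁) = t * (t₁ * t) * t₁ := by group
        _ = t * (t * t₁) * t₁ := by rw [hc.eq]
        _ = (t * t) * (t₁ * t₁) := by group
        _ = 1 := by rw [htt, ht₁₁, one_mul]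
    have hso : orderOf (t * t₁) = 2 := orderOf_two_of hs hss
    have hsa : t * t₁ ∈ a.1 := a.1.mul_mem hta h1
    apply (h.mem_iff hso hsa).2
    show w * (t * t₁) = t * t₁ * w
    have h5 : w * t = t₁ * w := by
      rw [ht₁, mul_assoc, hww, mul_one]
    have h6 : w * t₁ = t * w := by
      rw [ht₁]
      calc w * (w * t * w) = (w * w) * t * w := by group
        _ = t * w := by rw [hww, one_mul]
    calc w * (t * t₁) = (w * t) * t₁ := by group
      _ = t₁ * (w * t₁) := by rw [h5]; group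
      _ = t₁ * (t * w) := by rw [h6]
      _ = (t₁ * t) * w := by group
      _ = t * t₁ * w := by rw [hc.eq]

/-- An element fixing two points with square one is trivial. -/
theorem eq_one_of_sq {a b : Pt G} (hab : a ≠ b) {y : G} (h1 : y • a = a) (h2 : y • b = b)
    (hy : y * y = 1) : y = 1 := by
  by_contra hne
  have ho := orderOf_two_of hne hy
  exact hab (h.eq_of_inv_mem ho (h.mem_of_fix ho h1) (h.mem_of_fix ho h2))

/-- Every point contains two distinct involutions. -/
theorem exists_two_inv [Finite G] (a : Pt G) :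
    ∃ t₁ t₂ : G, orderOf t₁ = 2 ∧ orderOf t₂ = 2 ∧ t₁ ≠ t₂ ∧ t₁ ∈ a.1 ∧ t₂ ∈ a.1 := by
  obtain ⟨t, t', ht, ht', hne, hc⟩ := h.ex_comm
  obtain ⟨g, hg⟩ := h.exists_smul (pt t ht) a
  refine ⟨g * t * g⁻¹, g * t' * g⁻¹, by rw [orderOf_conj, ht], by rw [orderOf_conj, ht'], ?_, ?_, ?_⟩
  · intro h0
    apply hne
    have := mul_left_cancel (a := g) (by simpa [mul_assoc] using h0 : g * t = g * t')
    exact this
  · rw [← hg]
    exact conj_mem_smul (self_mem_pt ht)
  · rw [← hg]
    exact conj_mem_smul (mem_pt.2 hc.symm)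

/-- The product of two distinct involutions of a point is an involution of that point. -/
theorem mul_inv_of_mem {a : Pt G} {t₁ t₂ : G} (h1 : orderOf t₁ = 2) (h2 : orderOf t₂ = 2)
    (hne : t₁ ≠ t₂) (ha : t₁ ∈ a.1) (hb : t₂ ∈ a.1) : orderOf (t₁ * t₂) = 2 := by
  apply orderOf_two_of
  · intro h0
    apply hne
    have : t₂ = t₁⁻¹ := eq_inv_of_mul_eq_one_right h0
    rw [this, inv_of_inv h1]
  · have hc := h.comm_of_mem a ha hb
    calc t₁ * t₂ * (t₁ * t₂) = t₁ * (t₂ * t₁) * t₂ := by group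
      _ = t₁ * (t₁ * t₂) * t₂ := by rw [hc.eq]
      _ = (t₁ * t₁) * (t₂ * t₂) := by group
      _ = 1 := by rw [mul_self_of_inv h1, mul_self_of_inv h2, one_mul]

/-- Factorisation of a point stabilizer. -/
theorem exists_factor [Finite G] {a b : Pt G} (hab : a ≠ b) {g : G} (hg : g • a = a) :
    ∃ k : G, k • a = a ∧ k • b = b ∧ k⁻¹ * g ∈ a.1 := by
  obtain ⟨t, ht, hta⟩ := exists_inv a
  obtain ⟨t₀, ht₀, htb⟩ := exists_inv b
  have ht₁o : orderOf (g * t * g⁻¹) = 2 := by rw [orderOf_conj, ht]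
  have ht₁a : g * t * g⁻¹ ∈ a.1 := h.conj_mem_of_fix hg hta
  obtain ⟨u₁, hu₁, e₁, a₁, b₁, -⟩ := h.swap_of_inv hab ht ht₀ hta htb
  obtain ⟨u₂, hu₂, e₂, a₂, b₂, -⟩ := h.swap_of_inv hab ht₁o ht₀ ht₁a htb
  refine ⟨u₂ * u₁, ?_, ?_, ?_⟩
  · rw [mul_smul, a₁, b₂]
  · rw [mul_smul, b₁, a₂]
  · apply (h.mem_iff ht hta).2
    show (u₂ * u₁)⁻¹ * g * t = t * ((u₂ * u₁)⁻¹ * g)
    have h1 : u₂ * t₀ * u₂ = g * t * g⁻¹ := by
      rw [← e₂]
      calc u₂ * (u₂ * (g * t * g⁻¹) * u₂) * u₂
          = (u₂ * u₂) * (g * t * g⁻¹) * (u₂ * u₂) := by group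
        _ = g * t * g⁻¹ := by rw [mul_self_of_inv hu₂, one_mul, mul_one]
    have h2 : (u₂ * u₁) * t * (u₂ * u₁)⁻¹ = g * t * g⁻¹ := by
      rw [mul_inv_rev, inv_of_inv hu₂, inv_of_inv hu₁, ← h1, ← e₁]
      group
    have h3 : g * t = (u₂ * u₁) * t * (u₂ * u₁)⁻¹ * g := by
      rw [h2]
      group
    calc (u₂ * u₁)⁻¹ * g * t = (u₂ * u₁)⁻¹ * (g * t) := by group
      _ = (u₂ * u₁)⁻¹ * ((u₂ * u₁) * t * (u₂ * u₁)⁻¹ * g) := by rw [← h3]
      _ = t * ((u₂ * u₁)⁻¹ * g) := by group

/-- A normal subgroup without involutions fixes every point. -/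
theorem fix_of_normal [Finite G] (N : Subgroup G) [N.Normal] (hN : ∀ x ∈ N, x * x = 1 → x = 1)
    {g : G} (hg : g ∈ N) (a : Pt G) : g • a = a := by
  by_contra hb
  obtain ⟨t₁, t₂, h1, h2, hne, h1a, h2a⟩ := h.exists_two_inv a
  have hw : g * t₂ * g⁻¹ ∈ (g • a).1 := conj_mem_smul h2a
  have hwo : orderOf (g * t₂ * g⁻¹) = 2 := by rw [orderOf_conj, h2]
  have hnc := h.not_comm (Ne.symm hb) h1 hwo h1a hw
  obtain ⟨k, hk⟩ := h.odd_order_mul h1 hwo hnc
  have hso := h.mul_inv_of_mem h1 h2 hne h1a h2a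
  have hss := mul_self_of_inv hso
  let π := QuotientGroup.mk' N
  have hπg : π g = 1 := (QuotientGroup.eq_one_iff g).2 hg
  have h3 : π (t₁ * (g * t₂ * g⁻¹)) = π (t₁ * t₂) := by
    simp [map_mul, hπg]
  have h4 : (π (t₁ * t₂)) ^ (2 * k + 1) = 1 := by
    rw [← h3, ← map_pow, ← hk, pow_orderOf_eq_one, map_one]
  have h5 : (π (t₁ * t₂)) ^ 2 = 1 := by
    rw [← map_pow, pow_two, hss, map_one]
  have h6 : π (t₁ * t₂) = 1 := by
    rw [pow_succ, pow_mul, h5, one_pow, one_mul] at h4
    exact h4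
  have h7 : t₁ * t₂ ∈ N := (QuotientGroup.eq_one_iff _).1 h6
  have h8 := hN _ h7 hss
  have h9 : t₁ * t₂ ≠ 1 := by
    intro h0
    rw [h0] at hso
    simp at hso
  exact h9 h8

/-- An element lying in two distinct points has odd order. -/
theorem odd_of_mem_two [Finite G] {a b : Pt G} (hab : a ≠ b) {x : G} (hx : x ∈ a.1)
    (hx' : x ∈ b.1) : Odd (orderOf x) := by
  by_contra hodd
  rw [Nat.not_odd_iff_even] at hodd
  obtain ⟨k, hk⟩ := hodd
  have hpos : 0 < orderOf x := orderOf_pos _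
  have hk0 : k ≠ 0 := by omega
  have hw1 : x ^ k ≠ 1 := pow_ne_one_of_lt_orderOf hk0 (by omega)
  have hw2 : x ^ k * x ^ k = 1 := by
    rw [← pow_add, ← hk, pow_orderOf_eq_one]
  exact hab (h.eq_of_inv_mem (orderOf_two_of hw1 hw2) (a.1.pow_mem hx k) (b.1.pow_mem hx' k))

end Hyp

end Cfsg.Agent.Lib.InvCent
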