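import Mathlib
import Cfsg.Agent.Lib.InvCent.Basic
import Cfsg.Agent.Lib.Perm.ZassAb10

/-!
The case in which distinct points meet trivially: the group is sharply triply transitive on the
points and every point has exponent two.
-/

set_option autoImplicit false
set_option linter.unusedSectionVars false
set_option linter.unusedVariables false
set_option linter.style.haveILetI false

namespace Cfsg.Agent.Lib.InvCent

universe u

/-- Distinct points meet trivially. -/
def W1 (G : Type u) [Group G] : Prop :=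
  ∀ a b : Pt G, a ≠ b → ∀ x : G, x ∈ a.1 → x ∈ b.1 → x = 1

/-- A free action: the order of the group divides the size of the invariant set. -/
theorem card_dvd_of_free {H X : Type*} [Group H] [Finite H] [MulAction H X] (S : Set X) [Finite S]
    (hinv : ∀ (k : H), ∀ x ∈ S, k • x ∈ S) (hfree : ∀ (k : H), ∀ x ∈ S, k • x = x → k = 1) :
    Nat.card H ∣ Nat.card S := by
  let S' : SubMulAction H X := ⟨S, fun {k} {x} hx => hinv k x hx⟩
  have hst : ∀ b : S', MulAction.stabilizer H b = ⊥ := by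
    intro b
    rw [eq_bot_iff]
    intro k hk
    rw [MulAction.mem_stabilizer_iff] at hk
    have h1 : k • (b : X) = b := congrArg Subtype.val hk
    rw [Subgroup.mem_bot]
    exact hfree k b b.2 h1
  have e := MulAction.selfEquivOrbitsQuotientProd hst
  have h2 : Nat.card S' = Nat.card S := rfl
  rw [← h2, Nat.card_congr e, Nat.card_prod]
  exact dvd_mul_left _ _

namespace Hyp

variable {G : Type u} [Group G] [Finite G] (h : Hyp G) (w1 : W1 G)
include h w1

/-- A point acts freely off itself. -/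
theorem b3 {a b : Pt G} (hab : a ≠ b) {y : G} (hya : y ∈ a.1) (hyb : y • b = b) : y = 1 := by
  obtain ⟨u, hu, hua, hub⟩ := h.swap_pts hab
  have hui := inv_of_inv hu
  have huu := mul_self_of_inv hu
  set y' := u * y * u with hy'
  have hy'b : y' ∈ b.1 := by
    have := conj_mem_smul (g := u) hya
    rwa [hui, hua] at this
  have hy'a : y' • a = a := by
    rw [hy', mul_smul, mul_smul, hua, hyb, hub]
  have hya' : y • a = a := h.smul_eq_of_mem hya
  have hcomm : Commute y y' := by
    have h1 : y * y' * y⁻¹ * y'⁻¹ ∈ b.1 :=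
      b.1.mul_mem (h.conj_mem_of_fix hyb hy'b) (b.1.inv_mem hy'b)
    have h2 : y * y' * y⁻¹ * y'⁻¹ ∈ a.1 := by
      have : y * y' * y⁻¹ * y'⁻¹ = y * (y' * y⁻¹ * y'⁻¹) := by group
      rw [this]
      exact a.1.mul_mem hya (h.conj_mem_of_fix hy'a (a.1.inv_mem hya))
    have h3 := w1 a b hab _ h2 h1
    show y * y' = y' * y
    calc y * y' = (y * y' * y⁻¹ * y'⁻¹) * (y' * y) := by group
      _ = y' * y := by rw [h3, one_mul]
  set v := y * y' with hv
  have hvu : Commute v u := by
    have h1 : u * y' * u = y := by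
      rw [hy']
      calc u * (u * y * u) * u = (u * u) * y * (u * u) := by group
        _ = y := by rw [huu, one_mul, mul_one]
    have h2 : u * v * u = v := by
      calc u * v * u = (u * y * u) * (u * y' * u) := by
            rw [hv]
            calc u * (y * y') * u = u * y * 1 * y' * u := by group
              _ = u * y * (u * u) * y' * u := by rw [huu]
              _ = _ := by group
        _ = y' * y := by rw [h1]
        _ = v := hcomm.eq.symm
    show v * u = u * v
    calc v * u = u * v * u * u := by rw [h2]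
      _ = u * v := by rw [mul_assoc (u * v), huu, mul_one]
  by_cases hv1 : v = 1
  · have h1 : y' = y⁻¹ := eq_inv_of_mul_eq_one_right hv1
    have h2 : y ∈ b.1 := by
      have := b.1.inv_mem hy'b
      rwa [h1, inv_inv] at this
    exact w1 a b hab y hya h2
  · exfalso
    set e : Pt G := pt u hu with he
    have hve : v ∈ e.1 := mem_pt.2 hvu
    have hyv : Commute y v := (Commute.refl y).mul_right hcomm
    have hve' : v ∈ (y • e).1 := by
      have := conj_mem_smul (g := y) hve
      have h1 : y * v * y⁻¹ = v := by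
        rw [hyv.eq]
        group
      rwa [h1] at this
    have hye : y • e = e := by
      by_contra hne
      exact hv1 (w1 _ _ hne v hve' hve)
    set u₁ := y * u * y⁻¹ with hu₁
    have hu₁e : u₁ ∈ e.1 := h.conj_mem_of_fix hye (self_mem_pt hu)
    have hu₁o : orderOf u₁ = 2 := by rw [hu₁, orderOf_conj, hu]
    by_cases heq : u₁ = u
    · have h1 : y * u = u * y := by
        calc y * u = u₁ * y := by rw [hu₁]; group
          _ = u * y := by rw [heq]
      have h2 : y' = y := by
        rw [hy', ← h1, mul_assoc, huu, mul_one]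
      rw [h2] at hy'b
      exact hv1 (by rw [hv, h2, w1 a b hab y hya hy'b, one_mul])
    · have hwo : orderOf (u * u₁) = 2 :=
        h.mul_inv_of_mem hu hu₁o (Ne.symm heq) (self_mem_pt hu) hu₁e
      have hyia : y⁻¹ • a = a := by rw [inv_smul_eq_iff, hya']
      have hyib : y⁻¹ • b = b := by rw [inv_smul_eq_iff, hyb]
      have h1 : u₁ • a = b := by
        rw [hu₁, mul_smul, mul_smul, hyia, hua, hyb]
      have h2 : u₁ • b = a := by
        rw [hu₁, mul_smul, mul_smul, hyib, hub, hya']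
      have h3 : (u * u₁) • a = a := by rw [mul_smul, h1, hub]
      have h4 : (u * u₁) • b = b := by rw [mul_smul, h2, hua]
      exact hab (h.eq_of_inv_mem hwo (h.mem_of_fix hwo h3) (h.mem_of_fix hwo h4))

/-- Every involution swapping two points inverts their two point stabilizer. -/
theorem invert {a b : Pt G} (hab : a ≠ b) {k : G} (hka : k • a = a) (hkb : k • b = b) {u : G}
    (hu : orderOf u = 2) (hua : u • a = b) : u * k * u = k⁻¹ := by
  have hui := inv_of_inv hu
  have huu := mul_self_of_inv hu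
  have hub : u • b = a := by
    rw [← hua, ← mul_smul, huu, one_smul]
  obtain ⟨t', ht', htb⟩ := exists_inv b
  have hta : u * t' * u ∈ a.1 := by
    have := conj_mem_smul (g := u) htb
    rwa [hui, hub] at this
  have hto : orderOf (u * t' * u) = 2 := by
    have := orderOf_conj u t'
    rwa [hui, ht'] at this
  have ht''o : orderOf (k * t' * k⁻¹) = 2 := by rw [orderOf_conj, ht']
  have ht''b : k * t' * k⁻¹ ∈ b.1 := h.conj_mem_of_fix hkb htb
  obtain ⟨v, hv, e, a₁, b₁, -⟩ := h.swap_of_inv hab hto ht''o hta ht''b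
  have hvi := inv_of_inv hv
  have hvv := mul_self_of_inv hv
  have hz : k⁻¹ * (v * u) ∈ b.1 := by
    apply (h.mem_iff ht' htb).2
    show k⁻¹ * (v * u) * t' = t' * (k⁻¹ * (v * u))
    have h1 : (v * u) * t' = k * t' * k⁻¹ * (v * u) := by
      rw [← e]
      have h0 : (u * t' * u) * u = u * t' := by rw [mul_assoc (u * t'), huu, mul_one]
      calc v * u * t' = v * (u * t') := by group
        _ = v * ((u * t' * u) * u) := by rw [h0]
        _ = v * (u * t' * u) * 1 * u := by group
        _ = v * (u * t' * u) * (v * v) * u := by rw [hvv]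
        _ = _ := by group
    calc k⁻¹ * (v * u) * t' = k⁻¹ * ((v * u) * t') := by group
      _ = k⁻¹ * (k * t' * k⁻¹ * (v * u)) := by rw [h1]
      _ = t' * (k⁻¹ * (v * u)) := by group
  have hza : (k⁻¹ * (v * u)) • a = a := by
    rw [mul_smul, mul_smul, hua, b₁, inv_smul_eq_iff, hka]
  have hz1 := h.b3 w1 (Ne.symm hab) hz hza
  have hk : k = v * u := by
    have : v * u = k := by
      have h2 := congrArg (fun z => k * z) hz1
      simpa using h2
    exact this.symm
  rw [hk, mul_inv_rev, hui, hvi, mul_assoc, mul_assoc, huu, mul_one]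

/-- Two point stabilizers are abelian. -/
theorem comm_stab {a b : Pt G} (hab : a ≠ b) {k l : G} (hka : k • a = a) (hkb : k • b = b)
    (hla : l • a = a) (hlb : l • b = b) : Commute k l := by
  obtain ⟨u, hu, hua, hub⟩ := h.swap_pts hab
  have huu := mul_self_of_inv hu
  have h1 := h.invert w1 hab hka hkb hu hua
  have h2 := h.invert w1 hab hla hlb hu hua
  have h3 : u * (k * l) * u = (k * l)⁻¹ :=
    h.invert w1 hab (by rw [mul_smul, hla, hka]) (by rw [mul_smul, hlb, hkb]) hu hua
  have h4 : u * (k * l) * u = k⁻¹ * l⁻¹ := by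
    rw [← h1, ← h2]
    calc u * (k * l) * u = u * k * 1 * l * u := by group
      _ = u * k * (u * u) * l * u := by rw [huu]
      _ = _ := by group
  have h5 : (k * l)⁻¹ = k⁻¹ * l⁻¹ := h3.symm.trans h4
  rw [mul_inv_rev] at h5
  show k * l = l * k
  have h6 := congrArg (fun z => z⁻¹) h5
  simpa using h6

/-- No non-identity element fixes three points. -/
theorem zass {a b d : Pt G} (hab : a ≠ b) (hbd : b ≠ d) (had : a ≠ d) {y : G} (hya : y • a = a)
    (hyb : y • b = b) (hyd : y • d = d) : y = 1 := by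
  obtain ⟨u, hu, hua, hub⟩ := h.swap_pts hab
  obtain ⟨v, hv, hva, hvd⟩ := h.swap_pts had
  obtain ⟨w, hw, hwb, hwd⟩ := h.swap_pts hbd
  have hui := inv_of_inv hu
  have hvi := inv_of_inv hv
  have hwi := inv_of_inv hw
  have huu := mul_self_of_inv hu
  have e1 := h.invert w1 hab hya hyb hu hua
  have e2 := h.invert w1 had hya hyd hv hva
  have e3 := h.invert w1 hbd hyb hyd hw hwb
  set g := v * u * w with hg
  have hgd : g • d = d := by
    rw [hg, mul_smul, mul_smul, hwd, hub, hva]
  have hgi : g⁻¹ = w * u * v := by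
    rw [hg, mul_inv_rev, mul_inv_rev, hui, hvi, hwi]
    group
  have e4 : g * y * g⁻¹ = y⁻¹ := by
    rw [hgi, hg]
    have h1 : u * y⁻¹ * u = y := by
      have : u * y⁻¹ * u = (u * y * u)⁻¹ := by
        rw [mul_inv_rev, mul_inv_rev, hui]
        group
      rw [this, e1, inv_inv]
    calc v * u * w * y * (w * u * v) = v * (u * (w * y * w) * u) * v := by group
      _ = v * y * v := by rw [e3, h1]
      _ = y⁻¹ := e2
  obtain ⟨k, hkd, hka, hx⟩ := h.exists_factor (Ne.symm had) hgd
  have hc := h.comm_stab w1 (Ne.symm had) hkd hka hyd hya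
  set x := k⁻¹ * g with hxdef
  have e5 : x * y * x⁻¹ = y⁻¹ := by
    have h1 : k⁻¹ * y⁻¹ * k = y⁻¹ := by
      have h2 : Commute k y⁻¹ := hc.inv_right
      calc k⁻¹ * y⁻¹ * k = k⁻¹ * (y⁻¹ * k) := by group
        _ = k⁻¹ * (k * y⁻¹) := by rw [h2.eq]
        _ = y⁻¹ := by group
    calc x * y * x⁻¹ = k⁻¹ * (g * y * g⁻¹) * k := by rw [hxdef]; group
      _ = k⁻¹ * y⁻¹ * k := by rw [e4]
      _ = y⁻¹ := h1
  have e6 : y⁻¹ * y⁻¹ ∈ d.1 := by
    have h1 : y⁻¹ * y⁻¹ = x * (y * x⁻¹ * y⁻¹) := by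
      calc y⁻¹ * y⁻¹ = (x * y * x⁻¹) * y⁻¹ := by rw [e5]
        _ = _ := by group
    rw [h1]
    exact d.1.mul_mem hx (h.conj_mem_of_fix hyd (d.1.inv_mem hx))
  have e7 : y * y ∈ d.1 := by
    have := d.1.inv_mem e6
    simpa using this
  have e8 : (y * y) • a = a := by rw [mul_smul, hya, hya]
  have e9 := h.b3 w1 (Ne.symm had) e7 e8
  exact h.eq_one_of_sq hab hya hyb e9

/-- The two point stabilizer as a subgroup. -/
def stab2 (a b : Pt G) : Subgroup G := MulAction.stabilizer G a ⊓ MulAction.stabilizer G b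

omit h w1 in
theorem mem_stab2 {a b : Pt G} {k : G} : k ∈ stab2 a b ↔ k • a = a ∧ k • b = b := Iff.rfl

/-- Each point is transitive on the other points. -/
theorem transitive {a b d : Pt G} (hab : a ≠ b) (had : a ≠ d) : ∃ x ∈ a.1, x • b = d := by
  classical
  by_contra hnot
  push_neg at hnot
  have hfix : ∀ x ∈ a.1, x • a = a := fun x hx => h.smul_eq_of_mem hx
  -- the stabilizer has a non-identity element
  obtain ⟨t₁, t₂, h1, h2, hne, h1a, h2a⟩ := h.exists_two_inv a
  -- the orbits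
  let O : Pt G → Set (Pt G) := fun e => {z | ∃ x ∈ a.1, x • e = z}
  have hOne : ∀ e, a ≠ e → ∀ z ∈ O e, z ≠ a := by
    rintro e hae z ⟨x, hx, rfl⟩ h0
    apply hae
    have h3 : e = x⁻¹ • a := by rw [eq_inv_smul_iff, h0]
    rw [h3, hfix _ (a.1.inv_mem hx)]
  have hcard : ∀ e, a ≠ e → Nat.card (O e) = Nat.card a.1 := by
    intro e hae
    let f : a.1 → O e := fun x => ⟨(x : G) • e, x, x.2, rfl⟩
    have hf : Function.Bijective f := by
      constructor
      · intro x y hxy
        have h3 : (x : G) • e = (y : G) • e := congrArg Subtype.val hxy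
        have h4 : ((y : G)⁻¹ * x) • e = e := by
          rw [mul_smul, h3, inv_smul_smul]
        have h5 := h.b3 w1 hae (a.1.mul_mem (a.1.inv_mem y.2) x.2) h4
        apply Subtype.ext
        have h6 := congrArg (fun z => (y : G) * z) h5
        simpa using h6
      · rintro ⟨z, x, hx, rfl⟩
        exact ⟨⟨x, hx⟩, rfl⟩
    exact (Nat.card_congr (Equiv.ofBijective f hf)).symm
  have hH1 : Nat.card (stab2 a b) ≠ 1 := by
    intro h0
    obtain ⟨t₀, ht₀, htb⟩ := exists_inv b
    have ho1 := h1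
    obtain ⟨u₁, hu₁, e₁, a₁, b₁, -⟩ := h.swap_of_inv hab h1 ht₀ h1a htb
    obtain ⟨u₂, hu₂, e₂, a₂, b₂, -⟩ := h.swap_of_inv hab h2 ht₀ h2a htb
    have hmem : u₂ * u₁ ∈ stab2 a b := by
      constructor
      · show (u₂ * u₁) • a = a
        rw [mul_smul, a₁, b₂]
      · show (u₂ * u₁) • b = b
        rw [mul_smul, b₁, a₂]
    haveI : Subsingleton (stab2 a b) := (Nat.card_eq_one_iff_unique.1 h0).1
    have h3 : (⟨_, hmem⟩ : stab2 a b) = 1 := Subsingleton.elim _ _
    have h4 : u₂ * u₁ = 1 := congrArg Subtype.val h3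
    have h5 : u₁ = u₂ := by
      have : u₁ = u₂⁻¹ := eq_inv_of_mul_eq_one_right h4
      rw [this, inv_of_inv hu₂]
    apply hne
    rw [h5] at e₁
    have h6 := e₁.trans e₂.symm
    exact mul_left_cancel (mul_right_cancel h6)
  -- the action of the two point stabilizer
  have hconj : ∀ k ∈ stab2 a b, ∀ x ∈ a.1, ∀ e : Pt G,
      k • (x • e) = (k * x * k⁻¹) • (k • e) := by
    intro k hk x hx e
    rw [← mul_smul, ← mul_smul]
    congr 1
    group
  have hkx : ∀ k ∈ stab2 a b, ∀ x ∈ a.1, k * x * k⁻¹ ∈ a.1 := fun k hk x hx =>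
    h.conj_mem_of_fix hk.1 hx
  -- first divisibility
  have hd1 : Nat.card (stab2 a b) ∣ Nat.card a.1 - 1 := by
    let S : Set (Pt G) := O b \ {b}
    have hbO : b ∈ O b := ⟨1, a.1.one_mem, one_smul _ _⟩
    have hS : Nat.card S + 1 = Nat.card (O b) := by
      rw [Nat.card_coe_set_eq, Nat.card_coe_set_eq]
      exact Set.ncard_diff_singleton_add_one hbO (Set.toFinite _)
    have hdv : Nat.card (stab2 a b) ∣ Nat.card S := by
      apply card_dvd_of_free (H := stab2 a b) S
      · rintro ⟨k, hk⟩ z ⟨⟨x, hx, rfl⟩, hzb⟩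
        constructor
        · refine ⟨k * x * k⁻¹, hkx k hk x hx, ?_⟩
          show (k * x * k⁻¹) • b = k • (x • b)
          rw [hconj k hk x hx b, hk.2]
        · intro h0
          apply hzb
          have h3 : k • (x • b) = b := h0
          show x • b = b
          have h4 : x • b = k⁻¹ • b := by rw [eq_inv_smul_iff, h3]
          rw [h4, inv_smul_eq_iff, hk.2]
      · rintro ⟨k, hk⟩ z ⟨hz, hzb⟩ h0
        have h3 : k • z = z := h0
        have h4 := hOne b hab z hz
        apply Subtype.ext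
        exact h.zass w1 hab (Ne.symm hzb) (Ne.symm h4) hk.1 hk.2 h3
    rw [← hcard b hab, ← hS]
    simpa using hdv
  -- second divisibility
  have hd2 : Nat.card (stab2 a b) ∣ Nat.card a.1 := by
    rw [← hcard d had]
    apply card_dvd_of_free (H := stab2 a b) (O d)
    · rintro ⟨k, hk⟩ z ⟨x, hx, rfl⟩
      have h3 : k⁻¹ • a = a := by rw [inv_smul_eq_iff, hk.1]
      obtain ⟨k₀, hk₀d, hk₀a, hk₀⟩ := h.exists_factor (a := a) (b := d) had h3
      have h4 : k * k₀ ∈ a.1 := by
        have := a.1.inv_mem hk₀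
        simpa using this
      refine ⟨(k * x * k⁻¹) * (k * k₀), a.1.mul_mem (hkx k hk x hx) h4, ?_⟩
      show ((k * x * k⁻¹) * (k * k₀)) • d = k • (x • d)
      rw [hconj k hk x hx d, mul_smul, mul_smul k k₀, hk₀a]
    · rintro ⟨k, hk⟩ z hz h0
      have h3 : k • z = z := h0
      have h4 := hOne d had z hz
      have h5 : z ≠ b := by
        rintro rfl
        obtain ⟨x, hx, hxz⟩ := hz
        apply hnot x⁻¹ (a.1.inv_mem hx)
        rw [inv_smul_eq_iff, hxz]
      apply Subtype.ext
      exact h.zass w1 hab (Ne.symm h5) (Ne.symm h4) hk.1 hk.2 h3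
  have hpos : 0 < Nat.card a.1 := Nat.card_pos
  have hd3 : Nat.card (stab2 a b) ∣ 1 := by
    have := Nat.dvd_sub hd2 hd1
    have h3 : Nat.card a.1 - (Nat.card a.1 - 1) = 1 := by omega
    rwa [h3] at this
  exact hH1 (Nat.dvd_one.1 hd3)

omit w1 in
/-- There is a non-identity element fixing two given points. -/
theorem exists_stab_ne_one {a b : Pt G} (hab : a ≠ b) : ∃ k : G, k ≠ 1 ∧ k • a = a ∧ k • b = b := by
  obtain ⟨t₁, t₂, h1, h2, hne, h1a, h2a⟩ := h.exists_two_inv a
  obtain ⟨t₀, ht₀, htb⟩ := exists_inv b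
  obtain ⟨u₁, hu₁, e₁, a₁, b₁, -⟩ := h.swap_of_inv hab h1 ht₀ h1a htb
  obtain ⟨u₂, hu₂, e₂, a₂, b₂, -⟩ := h.swap_of_inv hab h2 ht₀ h2a htb
  refine ⟨u₂ * u₁, ?_, by rw [mul_smul, a₁, b₂], by rw [mul_smul, b₁, a₂]⟩
  intro h4
  have h5 : u₁ = u₂ := by
    have : u₁ = u₂⁻¹ := eq_inv_of_mul_eq_one_right h4
    rw [this, inv_of_inv hu₂]
  apply hne
  rw [h5] at e₁
  have h6 := e₁.trans e₂.symm
  exact mul_left_cancel (mul_right_cancel h6)

omit w1 in
/-- Every point differs from some point. -/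
theorem exists_ne (a : Pt G) : ∃ b : Pt G, a ≠ b := by
  obtain ⟨s, s', hs, hs', hn⟩ := h.ex_non
  by_cases h1 : a = pt s hs
  · refine ⟨pt s' hs', ?_⟩
    rw [h1]
    intro h0
    apply hn
    have h2 : s' ∈ (pt s hs).1 := by rw [h0]; exact self_mem_pt hs'
    exact (mem_pt.1 h2).symm
  · exact ⟨_, h1⟩

/-- The group is a Zassenhaus group on the points. -/
theorem isZass : Cfsg.IsZassenhausGroup G (Pt G) := by
  have h2t : MulAction.IsMultiplyPretransitive G (Pt G) 2 := by
    rw [MulAction.is_two_pretransitive_iff]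
    intro p q r s hpq hrs
    obtain ⟨g, hg⟩ := h.exists_smul p r
    have h1 : r ≠ g • q := by
      rw [← hg]
      intro h0
      exact hpq (smul_left_cancel g h0)
    obtain ⟨x, hx, hxq⟩ := h.transitive w1 h1 hrs
    refine ⟨x * g, ?_, ?_⟩
    · rw [mul_smul, hg]
      exact h.smul_eq_of_mem hx
    · rw [mul_smul, hxq]
  refine ⟨⟨?_⟩, h2t, ?_, ?_, ?_⟩
  · intro g₁ g₂ hg
    obtain ⟨a⟩ : Nonempty (Pt G) := by
      obtain ⟨s, s', hs, -, -⟩ := h.ex_non
      exact ⟨pt s hs⟩
    obtain ⟨b, hab⟩ := h.exists_ne a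
    obtain ⟨t, ht, hta⟩ := exists_inv a
    have h1 : t ≠ 1 := by
      rintro rfl
      simp at ht
    have h2 : a ≠ t • b := by
      intro h0
      have h3 : t⁻¹ • a = b := by rw [h0, inv_smul_smul]
      rw [h.smul_eq_of_mem (a.1.inv_mem hta)] at h3
      exact hab h3
    have h3 : b ≠ t • b := by
      intro h0
      exact h1 (h.b3 w1 hab hta h0.symm)
    have key : ∀ p : Pt G, (g₂⁻¹ * g₁) • p = p := by
      intro p
      rw [mul_smul, inv_smul_eq_iff]
      exact hg p
    have h4 := h.zass w1 hab h3 h2 (key _) (key _) (key _)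
    have h5 := congrArg (fun z => g₂ * z) h4
    simpa using h5
  · intro g a b c hab hbc hac h1 h2 h3
    exact h.zass w1 hab hbc hac h1 h2 h3
  · obtain ⟨s, s', hs, hs', hn⟩ := h.ex_non
    have hab : pt s hs ≠ pt s' hs' := by
      intro h0
      apply hn
      have h2 : s' ∈ (pt s hs).1 := by rw [h0]; exact self_mem_pt hs'
      exact (mem_pt.1 h2).symm
    obtain ⟨k, hk, h1, h2⟩ := h.exists_stab_ne_one hab
    exact ⟨k, hk, _, _, hab, h1, h2⟩
  · intro N hN htr
    by_contra hall
    push_neg at hall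
    have hno : ∀ x ∈ N, x * x = 1 → x = 1 := by
      intro x hx hxx
      by_contra hne
      have ho := orderOf_two_of hne hxx
      have h1 : (⟨x, hx⟩ : N) ∈ MulAction.stabilizer N (pt x ho) := by
        rw [MulAction.mem_stabilizer_iff]
        show x • (pt x ho) = pt x ho
        exact h.smul_eq_of_mem (self_mem_pt ho)
      rw [hall, Subgroup.mem_bot] at h1
      exact hne (congrArg Subtype.val h1)
    obtain ⟨s, s', hs, hs', hn⟩ := h.ex_non
    have hab : pt s hs ≠ pt s' hs' := by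
      intro h0
      apply hn
      have h2 : s' ∈ (pt s hs).1 := by rw [h0]; exact self_mem_pt hs'
      exact (mem_pt.1 h2).symm
    obtain ⟨g, hg⟩ := MulAction.IsPretransitive.exists_smul_eq (M := N) (pt s hs) (pt s' hs')
    apply hab
    rw [← hg]
    exact (h.fix_of_normal N hno g.2 _).symm

/-- The Zassenhaus setting with the point as kernel. -/
theorem setup [Fintype G] [Fintype (Pt G)] {a b : Pt G} (hab : a ≠ b) :
    Cfsg.Agent.Lib.Perm.ZA.Setup G (Pt G) a b a.1 := by
  refine ⟨h.isZass w1, hab, fun x hx => h.smul_eq_of_mem hx, ?_, ?_, ?_⟩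
  · let f : a.1 → {y : Pt G // y ≠ a} := fun x => ⟨(x : G) • b, by
      intro h0
      apply hab
      have h1 : (x : G)⁻¹ • a = b := inv_smul_eq_iff.2 h0.symm
      rw [h.smul_eq_of_mem (a.1.inv_mem x.2)] at h1
      exact h1⟩
    have hf : Function.Bijective f := by
      constructor
      · intro x y hxy
        have h3 : (x : G) • b = (y : G) • b := congrArg Subtype.val hxy
        have h4 : ((y : G)⁻¹ * x) • b = b := by
          rw [mul_smul, h3, inv_smul_smul]
        have h5 := h.b3 w1 hab (a.1.mul_mem (a.1.inv_mem y.2) x.2) h4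
        apply Subtype.ext
        have h6 := congrArg (fun z => (y : G) * z) h5
        simpa using h6
      · rintro ⟨z, hz⟩
        obtain ⟨x, hx, hxz⟩ := h.transitive w1 hab (Ne.symm hz)
        exact ⟨⟨x, hx⟩, Subtype.ext hxz⟩
    have h1 := Nat.card_congr (Equiv.ofBijective f hf)
    classical
    have h2 : Fintype.card {y : Pt G // y ≠ a} + 1 = Fintype.card (Pt G) := by
      have := Fintype.card_congr (Equiv.optionSubtypeNe a)
      rwa [Fintype.card_option] at this
    rw [h1, Nat.card_eq_fintype_card, h2]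
  · intro u hu hu1 c hc
    by_contra hca
    exact hu1 (h.b3 w1 (Ne.symm hca) hu hc)
  · intro x hx y hy
    exact (h.comm_of_mem a hx hy).eq

/-- The numerical statement. -/
theorem card_eq {a b : Pt G} (hab : a ≠ b) : Nat.card a.1 - 1 = Nat.card (stab2 a b) := by
  classical
  haveI := Fintype.ofFinite G
  haveI := Fintype.ofFinite (Pt G)
  have S := h.setup w1 hab
  rcases S.numeric with h1 | h1
  · exact h1
  · exfalso
    obtain ⟨t, ht, hta⟩ := exists_inv a
    have h2 : 2 ∣ Nat.card a.1 := by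
      have := orderOf_dvd_natCard (⟨t, hta⟩ : a.1)
      rwa [Subgroup.orderOf_mk, ht] at this
    have hpos : 0 < Nat.card a.1 := Nat.card_pos
    omega

/-- All non-identity elements of a point are involutions. -/
theorem sq_eq_one {a : Pt G} {x : G} (hx : x ∈ a.1) : x * x = 1 := by
  classical
  by_cases hx1 : x = 1
  · rw [hx1, one_mul]
  obtain ⟨b, hab⟩ := h.exists_ne a
  obtain ⟨t₀, ht₀, ht₀b⟩ := exists_inv b
  obtain ⟨t₁, ht₁, ht₁a⟩ := exists_inv a
  let Ia : Set G := {y | y ∈ a.1 ∧ orderOf y = 2}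
  let T : Set G := (a.1 : Set G) \ {1}
  have hsub : Ia ⊆ T := by
    rintro y ⟨h1, h2⟩
    refine ⟨h1, ?_⟩
    rintro h0
    have h3 : y = 1 := h0
    rw [h3] at h2
    simp at h2
  have hcardT : Nat.card T = Nat.card a.1 - 1 := by
    have h1 : (1 : G) ∈ (a.1 : Set G) := a.1.one_mem
    have h2 : T.ncard + 1 = Set.ncard (a.1 : Set G) :=
      Set.ncard_diff_singleton_add_one h1 (Set.toFinite _)
    have h3 : Set.ncard (a.1 : Set G) = Nat.card a.1 := by
      rw [← Nat.card_coe_set_eq]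
      rfl
    rw [Nat.card_coe_set_eq]
    omega
  let f : stab2 a b → Ia := fun k => ⟨(k : G) * t₁ * (k : G)⁻¹,
    h.conj_mem_of_fix k.2.1 ht₁a, by rw [orderOf_conj, ht₁]⟩
  have hf : Function.Bijective f := by
    constructor
    · intro k l hkl
      have h1 : (k : G) * t₁ * (k : G)⁻¹ = (l : G) * t₁ * (l : G)⁻¹ := congrArg Subtype.val hkl
      have h2 : (l : G)⁻¹ * k ∈ a.1 := by
        apply (h.mem_iff ht₁ ht₁a).2
        show (l : G)⁻¹ * k * t₁ = t₁ * ((l : G)⁻¹ * k)
        have h3 : (k : G) * t₁ = (l : G) * t₁ * (l : G)⁻¹ * k := by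
          rw [← h1]
          group
        calc (l : G)⁻¹ * k * t₁ = (l : G)⁻¹ * (k * t₁) := by group
          _ = (l : G)⁻¹ * ((l : G) * t₁ * (l : G)⁻¹ * k) := by rw [h3]
          _ = _ := by group
      have h3 : ((l : G)⁻¹ * k) • b = b := by
        rw [mul_smul, inv_smul_eq_iff, k.2.2, l.2.2]
      have h4 := h.b3 w1 hab h2 h3
      apply Subtype.ext
      have h6 := congrArg (fun z => (l : G) * z) h4
      simpa using h6
    · rintro ⟨w, hwa, hwo⟩
      obtain ⟨u₁, hu₁, e₁, a₁, b₁, -⟩ := h.swap_of_inv hab ht₁ ht₀ ht₁a ht₀b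
      obtain ⟨u₂, hu₂, e₂, a₂, b₂, -⟩ := h.swap_of_inv hab hwo ht₀ hwa ht₀b
      refine ⟨⟨u₂ * u₁, by rw [mem_stab2]; exact ⟨by rw [mul_smul, a₁, b₂], by rw [mul_smul, b₁, a₂]⟩⟩, ?_⟩
      apply Subtype.ext
      show (u₂ * u₁) * t₁ * (u₂ * u₁)⁻¹ = w
      rw [mul_inv_rev, inv_of_inv hu₂, inv_of_inv hu₁]
      have h1 : u₂ * t₀ * u₂ = w := by
        rw [← e₂]
        calc u₂ * (u₂ * w * u₂) * u₂ = (u₂ * u₂) * w * (u₂ * u₂) := by group
          _ = w := by rw [mul_self_of_inv hu₂, one_mul, mul_one]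
      rw [← h1, ← e₁]
      group
  have hcardI : Nat.card Ia = Nat.card (stab2 a b) := (Nat.card_congr (Equiv.ofBijective f hf)).symm
  have hc := h.card_eq w1 hab
  have heq : Ia = T := by
    apply Set.eq_of_subset_of_ncard_le hsub _ (Set.toFinite _)
    rw [← Nat.card_coe_set_eq, ← Nat.card_coe_set_eq, hcardT, hcardI, hc]
  have hxT : x ∈ T := ⟨hx, hx1⟩
  rw [← heq] at hxT
  exact mul_self_of_inv hxT.2

/-- Sharp triple transitivity. -/
theorem sharp : MulAction.IsMultiplyPretransitive G (Pt G) 3 ∧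
    ∀ t : Fin 3 ↪ Pt G, MulAction.stabilizer G t = ⊥ := by
  classical
  haveI := Fintype.ofFinite G
  haveI := Fintype.ofFinite (Pt G)
  obtain ⟨s, s', hs, -, -⟩ := h.ex_non
  obtain ⟨b, hab⟩ := h.exists_ne (pt s hs)
  exact (h.setup w1 hab).sharply_three (h.card_eq w1 hab)

/-- The number of points. -/
theorem card_pt : ∃ f : ℕ, 2 ≤ f ∧ Nat.card (Pt G) = 2 ^ f + 1 := by
  classical
  haveI := Fintype.ofFinite G
  haveI := Fintype.ofFinite (Pt G)
  obtain ⟨s, s', hs, -, -⟩ := h.ex_non
  set a : Pt G := pt s hs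
  obtain ⟨b, hab⟩ := h.exists_ne a
  have hS := (h.setup w1 hab).hFcard
  haveI : Fact (Nat.Prime 2) := ⟨Nat.prime_two⟩
  have hp : IsPGroup 2 a.1 := by
    intro x
    refine ⟨1, ?_⟩
    apply Subtype.ext
    show ((x : G)) ^ 2 ^ 1 = 1
    rw [pow_one, pow_two]
    exact h.sq_eq_one w1 x.2
  obtain ⟨f, hf⟩ := IsPGroup.iff_card.1 hp
  refine ⟨f, ?_, ?_⟩
  · by_contra hlt
    obtain ⟨t₁, t₂, h1, h2, hne, h1a, h2a⟩ := h.exists_two_inv a
    have hle : Nat.card a.1 ≤ 2 := by
      rw [hf]
      calc 2 ^ f ≤ 2 ^ 1 := Nat.pow_le_pow_right (by norm_num) (by omega)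
        _ = 2 := rfl
    have h3 : 2 < Nat.card a.1 := by
      have h4 : ({1, t₁, t₂} : Set G).ncard = 3 := by
        rw [Set.ncard_insert_of_notMem, Set.ncard_pair hne]
        simp only [Set.mem_insert_iff, Set.mem_singleton_iff, not_or]
        constructor
        · rintro h0
          rw [← h0] at h1
          simp at h1
        · rintro h0
          rw [← h0] at h2
          simp at h2
      have h5 : ({1, t₁, t₂} : Set G) ⊆ (a.1 : Set G) := by
        intro z hz
        simp only [Set.mem_insert_iff, Set.mem_singleton_iff] at hz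
        rcases hz with rfl | rfl | rfl
        · exact a.1.one_mem
        · exact h1a
        · exact h2a
      have h6 := Set.ncard_le_ncard h5 (Set.toFinite _)
      have h7 : Set.ncard (a.1 : Set G) = Nat.card a.1 := by
        rw [← Nat.card_coe_set_eq]
        rfl
      omega
    omega
  · rw [Nat.card_eq_fintype_card, ← hS, hf]

/-- A subgroup without involutions cannot be transitive on all involutions. -/
theorem no_transitive (X : Subgroup G) (hX : ∀ x ∈ X, x * x = 1 → x = 1) {t₀ : G}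
    (ht₀ : orderOf t₀ = 2) (htr : ∀ w : G, orderOf w = 2 → ∃ g ∈ X, g * t₀ * g⁻¹ = w) : False := by
  classical
  haveI := Fintype.ofFinite G
  haveI := Fintype.ofFinite (Pt G)
  set b : Pt G := pt t₀ ht₀ with hb
  have ht₀b : t₀ ∈ b.1 := self_mem_pt ht₀
  -- elements of `X` in a point are trivial
  have hXp : ∀ (d : Pt G) (x : G), x ∈ X → x ∈ d.1 → x = 1 := fun d x hx hd =>
    hX x hx (h.sq_eq_one w1 hd)
  -- the cardinalities
  have hcard : ∀ (d : Pt G) (t : G), orderOf t = 2 → t ∈ d.1 →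
      Nat.card (X ⊓ MulAction.stabilizer G d : Subgroup G) + 1 = Nat.card d.1 := by
    intro d t ht htd
    let T : Set G := (d.1 : Set G) \ {1}
    have hcardT : Nat.card T + 1 = Nat.card d.1 := by
      have h1 : (1 : G) ∈ (d.1 : Set G) := d.1.one_mem
      have h2 : T.ncard + 1 = Set.ncard (d.1 : Set G) :=
        Set.ncard_diff_singleton_add_one h1 (Set.toFinite _)
      have h3 : Set.ncard (d.1 : Set G) = Nat.card d.1 := by
        rw [← Nat.card_coe_set_eq]
        rfl
      rw [Nat.card_coe_set_eq]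
      omega
    have hTo : ∀ y ∈ T, orderOf y = 2 := by
      rintro y ⟨h1, h2⟩
      exact orderOf_two_of h2 (h.sq_eq_one w1 h1)
    obtain ⟨g₀, hg₀, hg₀t⟩ := htr t ht
    let f : (X ⊓ MulAction.stabilizer G d : Subgroup G) → T := fun k => ⟨(k : G) * t * (k : G)⁻¹, by
      have h1 : (k : G) • d = d := k.2.2
      refine ⟨h.conj_mem_of_fix h1 htd, ?_⟩
      intro h0
      have h2 : orderOf ((k : G) * t * (k : G)⁻¹) = 2 := by rw [orderOf_conj, ht]
      have h3 : (k : G) * t * (k : G)⁻¹ = 1 := h0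
      rw [h3] at h2
      simp at h2⟩
    have hf : Function.Bijective f := by
      constructor
      · intro k l hkl
        have h1 : (k : G) * t * (k : G)⁻¹ = (l : G) * t * (l : G)⁻¹ := congrArg Subtype.val hkl
        have h2 : (l : G)⁻¹ * k ∈ d.1 := by
          apply (h.mem_iff ht htd).2
          show (l : G)⁻¹ * k * t = t * ((l : G)⁻¹ * k)
          have h3 : (k : G) * t = (l : G) * t * (l : G)⁻¹ * k := by
            rw [← h1]
            group
          calc (l : G)⁻¹ * k * t = (l : G)⁻¹ * (k * t) := by group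
            _ = (l : G)⁻¹ * ((l : G) * t * (l : G)⁻¹ * k) := by rw [h3]
            _ = _ := by group
        have h4 := hXp d _ (X.mul_mem (X.inv_mem l.2.1) k.2.1) h2
        apply Subtype.ext
        have h6 := congrArg (fun z => (l : G) * z) h4
        simpa using h6
      · rintro ⟨w, hw⟩
        have hwo := hTo w hw
        obtain ⟨g, hg, hgw⟩ := htr w hwo
        have hk : g * g₀⁻¹ ∈ X := X.mul_mem hg (X.inv_mem hg₀)
        have h1 : (g * g₀⁻¹) * t * (g * g₀⁻¹)⁻¹ = w := by
          rw [← hgw, ← hg₀t]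
          group
        have hfix : (g * g₀⁻¹) • d = d := by
          apply h.smul_eq_of_conj_mem ht htd
          rw [h1]
          exact hw.1
        exact ⟨⟨g * g₀⁻¹, hk, hfix⟩, Subtype.ext h1⟩
    rw [← hcardT, Nat.card_congr (Equiv.ofBijective f hf)]
  have hb4 : 4 ≤ Nat.card b.1 := by
    obtain ⟨t₁, t₂, h1, h2, hne, h1a, h2a⟩ := h.exists_two_inv b
    obtain ⟨f, hf2, hf⟩ := h.card_pt w1
    have hS := (h.setup w1 (h.exists_ne b).choose_spec).hFcard
    have h3 : 2 ^ 2 ≤ 2 ^ f := Nat.pow_le_pow_right (by norm_num) hf2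
    rw [Nat.card_eq_fintype_card] at hf
    omega
  set Xb : Subgroup G := X ⊓ MulAction.stabilizer G b with hXb
  have hXbc : Nat.card Xb + 1 = Nat.card b.1 := hcard b t₀ ht₀ ht₀b
  -- the action on a point agrees with that of the factor
  have hact : ∀ (k : G) (e : Pt G), b ≠ e → k • b = b →
      ∃ k₀ : G, k₀ • b = b ∧ k₀ • e = e ∧ ∀ t ∈ b.1, k * t * k⁻¹ = k₀ * t * k₀⁻¹ := by
    intro k e hbe hk
    obtain ⟨k₀, h1, h2, h3⟩ := h.exists_factor hbe hk
    refine ⟨k₀, h1, h2, ?_⟩
    intro t ht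
    have h4 := h.comm_of_mem b h3 ht
    have h5 : k = k₀ * (k₀⁻¹ * k) := by group
    calc k * t * k⁻¹ = k₀ * ((k₀⁻¹ * k) * t) * (k₀⁻¹ * k)⁻¹ * k₀⁻¹ := by
          nth_rewrite 1 [h5]
          group
      _ = k₀ * (t * (k₀⁻¹ * k)) * (k₀⁻¹ * k)⁻¹ * k₀⁻¹ := by rw [h4.eq]
      _ = k₀ * t * k₀⁻¹ := by group
  -- `Xb` is abelian
  obtain ⟨e, hbe⟩ := h.exists_ne b
  have hab : ∀ k ∈ Xb, ∀ l ∈ Xb, Commute k l := by
    intro k hk l hl
    obtain ⟨k₀, k1, k2, k3⟩ := hact k e hbe hk.2
    obtain ⟨l₀, l1, l2, l3⟩ := hact l e hbe hl.2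
    have hkl₀ := h.comm_stab w1 hbe k1 k2 l1 l2
    have hz : (l * k)⁻¹ * (k * l) ∈ b.1 := by
      apply (h.mem_iff ht₀ ht₀b).2
      show (l * k)⁻¹ * (k * l) * t₀ = t₀ * ((l * k)⁻¹ * (k * l))
      have hk' : k • b = b := hk.2
      have hl' : l • b = b := hl.2
      have e1 : (k * l) * t₀ * (k * l)⁻¹ = k₀ * (l₀ * t₀ * l₀⁻¹) * k₀⁻¹ := by
        rw [← l3 t₀ ht₀b, ← k3 _ (h.conj_mem_of_fix hl' ht₀b)]
        group
      have e2 : (l * k) * t₀ * (l * k)⁻¹ = l₀ * (k₀ * t₀ * k₀⁻¹) * l₀⁻¹ := by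
        rw [← k3 t₀ ht₀b, ← l3 _ (h.conj_mem_of_fix hk' ht₀b)]
        group
      have e3 : k₀ * (l₀ * t₀ * l₀⁻¹) * k₀⁻¹ = l₀ * (k₀ * t₀ * k₀⁻¹) * l₀⁻¹ := by
        have : k₀ * l₀ = l₀ * k₀ := hkl₀.eq
        calc k₀ * (l₀ * t₀ * l₀⁻¹) * k₀⁻¹ = (k₀ * l₀) * t₀ * (k₀ * l₀)⁻¹ := by group
          _ = (l₀ * k₀) * t₀ * (l₀ * k₀)⁻¹ := by rw [this]
          _ = _ := by group
      have e4 : (k * l) * t₀ * (k * l)⁻¹ = (l * k) * t₀ * (l * k)⁻¹ := by
        rw [e1, e2, e3]
      have e5 : (k * l) * t₀ = (l * k) * t₀ * (l * k)⁻¹ * (k * l) := by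
        rw [← e4]
        group
      calc (l * k)⁻¹ * (k * l) * t₀ = (l * k)⁻¹ * ((k * l) * t₀) := by group
        _ = (l * k)⁻¹ * ((l * k) * t₀ * (l * k)⁻¹ * (k * l)) := by rw [← e5]
        _ = _ := by group
    have hmem : (l * k)⁻¹ * (k * l) ∈ X := by
      exact X.mul_mem (X.inv_mem (X.mul_mem hl.1 hk.1)) (X.mul_mem hk.1 hl.1)
    have h1 := hXp b _ hmem hz
    exact (inv_mul_eq_one.mp h1).symm
  -- a point fixed by a non-identity element of `Xb`
  obtain ⟨g, hgX, hg1, d, hdb, hgd⟩ : ∃ g ∈ Xb, g ≠ 1 ∧ ∃ d : Pt G, d ≠ b ∧ g • d = d := by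
    by_contra hnot
    push_neg at hnot
    let S : Set (Pt G) := {z | z ≠ b}
    have hdv : Nat.card Xb ∣ Nat.card S := by
      apply card_dvd_of_free (H := Xb) S
      · rintro ⟨k, hk⟩ z hz
        show k • z ≠ b
        intro h0
        apply hz
        have h1 : k⁻¹ • b = z := inv_smul_eq_iff.2 h0.symm
        have h2 : k • b = b := hk.2
        have h3 : k⁻¹ • b = b := by rw [inv_smul_eq_iff, h2]
        rw [← h1, h3]
      · rintro ⟨k, hk⟩ z hz h0
        by_contra hne
        have h1 : k ≠ 1 := by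
          intro h2
          exact hne (Subtype.ext h2)
        exact hnot k hk h1 z hz h0
    have hS := (h.setup w1 hbe).hFcard
    have hSc : Nat.card S + 1 = Fintype.card (Pt G) := by
      have h2 : Fintype.card {y : Pt G // y ≠ b} + 1 = Fintype.card (Pt G) := by
        have := Fintype.card_congr (Equiv.optionSubtypeNe b)
        rwa [Fintype.card_option] at this
      rw [← h2, Nat.card_eq_fintype_card]
      rfl
    have h3 : Nat.card S = Nat.card Xb + 1 := by omega
    rw [h3] at hdv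
    have h4 : Nat.card Xb ∣ 1 := (Nat.dvd_add_right (dvd_refl _)).1 hdv
    have h5 := Nat.dvd_one.1 h4
    omega
  have hgb : g • b = b := hgX.2
  -- `Xb` fixes `d`
  have hfixd : ∀ l ∈ Xb, l • d = d := by
    intro l hl
    by_contra hne
    have hlb : l • b = b := hl.2
    have h1 : b ≠ l • d := by
      intro h0
      apply hdb
      have h2 : l⁻¹ • b = d := inv_smul_eq_iff.2 h0
      have h3 : l⁻¹ • b = b := by rw [inv_smul_eq_iff, hlb]
      rw [← h2, h3]
    have h2 : g • (l • d) = l • d := by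
      rw [← mul_smul, (hab g hgX l hl).eq, mul_smul, hgd]
    exact hg1 (h.zass w1 hdb h1 (Ne.symm hne) hgd hgb h2)
  obtain ⟨td, htd, htdd⟩ := exists_inv d
  obtain ⟨x, hxX, hx⟩ := htr td htd
  have hxb : x • b = d := by
    apply h.smul_eq_of_conj_mem ht₀ ht₀b
    rw [hx]
    exact htdd
  -- the stabilizers of `b` and `d` in `X` agree
  have hcd : Nat.card d.1 = Nat.card b.1 := by
    rw [← hxb, smul_val]
    exact Subgroup.card_map_of_injective (MulAut.conj x).injective
  have hXd : Xb = X ⊓ MulAction.stabilizer G d := by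
    apply Subgroup.eq_of_le_of_card_ge
    · intro l hl
      exact ⟨hl.1, hfixd l hl⟩
    · have h1 := hcard d td htd htdd
      omega
  have hconj : x * g * x⁻¹ ∈ Xb := by
    rw [hXd]
    refine ⟨X.mul_mem (X.mul_mem hxX hgX.1) (X.inv_mem hxX), ?_⟩
    show (x * g * x⁻¹) • d = d
    rw [← hxb, mul_smul, mul_smul, inv_smul_smul, hgb]
  have hxd : x • d = b := by
    by_contra hne
    have h1 : (x * g * x⁻¹) • (x • d) = x • d := by
      rw [mul_smul, mul_smul, inv_smul_smul, hgd]
    have h2 : x • d ≠ d := by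
      intro h0
      apply hdb
      have h3 : x • d = x • b := by rw [h0, hxb]
      exact smul_left_cancel x h3
    have h3 : x * g * x⁻¹ = 1 := by
      have hc1 : (x * g * x⁻¹) • b = b := hconj.2
      have hc2 : (x * g * x⁻¹) • d = d := hfixd _ hconj
      exact h.zass w1 (Ne.symm hdb) (Ne.symm h2) (Ne.symm hne) hc1 hc2 h1
    apply hg1
    have h4 : g = x⁻¹ * (x * g * x⁻¹) * x := by group
    rw [h4, h3]
    group
  have hxx : (x * x) • b = b := by rw [mul_smul, hxb, hxd]
  -- `x` has odd order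
  have hodd : Odd (orderOf x) := by
    by_contra hodd
    rw [Nat.not_odd_iff_even] at hodd
    obtain ⟨j, hj⟩ := hodd
    have hpos : 0 < orderOf x := orderOf_pos _
    have hj0 : j ≠ 0 := by omega
    have hw1 : x ^ j ≠ 1 := pow_ne_one_of_lt_orderOf hj0 (by omega)
    have hw2 : x ^ j * x ^ j = 1 := by
      rw [← pow_add, ← hj, pow_orderOf_eq_one]
    exact hw1 (hX _ (X.pow_mem hxX j) hw2)
  obtain ⟨j, hj⟩ := hodd
  have hpw : ∀ i : ℕ, (x ^ (2 * i)) • b = b := by
    intro i
    induction i with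
    | zero => simp
    | succ i ih =>
      have : x ^ (2 * (i + 1)) = x ^ (2 * i) * (x * x) := by
        rw [Nat.mul_succ, pow_add, pow_two]
      rw [this, mul_smul, hxx, ih]
  have h1 : x ^ (2 * j + 1) = 1 := by
    rw [← hj, pow_orderOf_eq_one]
  have h2 : (x ^ (2 * j + 1)) • b = d := by
    rw [pow_succ', mul_smul, hpw, hxb]
  rw [h1, one_smul] at h2
  exact hdb h2.symm

end Hyp

end Cfsg.Agent.Lib.InvCent
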