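import Mathlib
import Cfsg.Agent.Lib.InvCent.Trivial

/-!
The centralizer of all involutions, the quotient by it, and the centralizers of elements lying in
two points.
-/

set_option autoImplicit false
set_option linter.unusedSectionVars false
set_option linter.unusedVariables false
set_option linter.style.haveILetI false

namespace Cfsg.Agent.Lib.InvCent

universe u

/-- The centralizer of all involutions. -/
def K (G : Type u) [Group G] : Subgroup G := Subgroup.centralizer {t : G | orderOf t = 2}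

/-- Elements of odd order commuting with one involution commute with all of them. -/
def P1 (G : Type u) [Group G] : Prop :=
  ∀ z t t' : G, Odd (orderOf z) → orderOf t = 2 → orderOf t' = 2 → Commute z t → Commute z t'

variable {G : Type u} [Group G]

theorem mem_K {x : G} : x ∈ K G ↔ ∀ t : G, orderOf t = 2 → Commute x t := by
  rw [K, Subgroup.mem_centralizer_iff]
  constructor
  · intro h t ht
    exact (h t ht).symm
  · intro h t ht
    exact (h t ht).symm

instance : (K G).Normal := by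
  constructor
  intro n hn g
  rw [mem_K] at hn ⊢
  intro t ht
  have h1 := hn (g⁻¹ * t * g) (by
    have := orderOf_conj g⁻¹ t
    rwa [inv_inv, ht] at this)
  have h2 := (Commute.conj_iff g).2 h1
  have h3 : g * (g⁻¹ * t * g) * g⁻¹ = t := by group
  rwa [h3] at h2

namespace Hyp

variable [Finite G] (h : Hyp G)
include h

theorem K_sq {x : G} (hx : x ∈ K G) (hxx : x * x = 1) : x = 1 := by
  by_contra hne
  have ho := orderOf_two_of hne hxx
  obtain ⟨s, s', hs, hs', hn⟩ := h.ex_non
  exact hn (h.comm x s s' ho (mem_K.1 hx s hs).symm (mem_K.1 hx s' hs').symm)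

theorem odd_card_K : Odd (Nat.card (K G)) := by
  by_contra hodd
  rw [Nat.not_odd_iff_even] at hodd
  haveI : Fact (Nat.Prime 2) := ⟨Nat.prime_two⟩
  obtain ⟨x, hx⟩ := exists_prime_orderOf_dvd_card' (G := K G) 2 hodd.two_dvd
  have h1 : x * x = 1 := mul_self_of_inv hx
  have h2 : (x : G) * x = 1 := congrArg Subtype.val h1
  have h3 := h.K_sq x.2 h2
  have h4 : x = 1 := Subtype.ext h3
  rw [h4] at hx
  simp at hx

theorem commute_of_quot {g t : G} (ht : orderOf t = 2)
    (hc : Commute (g : G ⧸ K G) (t : G ⧸ K G)) : Commute g t := by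
  have h1 : ((g * t : G) : G ⧸ K G) = ((t * g : G) : G ⧸ K G) := by
    rw [QuotientGroup.mk_mul, QuotientGroup.mk_mul]
    exact hc.eq
  have hk : (g * t)⁻¹ * (t * g) ∈ K G := QuotientGroup.eq.1 h1
  set c := (g * t)⁻¹ * (t * g) with hcdef
  have h2 : Commute c t := mem_K.1 hk t ht
  have h3 : t * c = g⁻¹ * t * g := by
    rw [hcdef, mul_inv_rev, inv_of_inv ht]
    calc t * (t * g⁻¹ * (t * g)) = (t * t) * g⁻¹ * t * g := by group
      _ = g⁻¹ * t * g := by rw [mul_self_of_inv ht, one_mul]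
  have h4 : (t * c) * (t * c) = 1 := by
    rw [h3]
    calc g⁻¹ * t * g * (g⁻¹ * t * g) = g⁻¹ * (t * t) * g := by group
      _ = 1 := by rw [mul_self_of_inv ht]; group
  have h5 : c * c = 1 := by
    calc c * c = (t * t) * (c * c) := by rw [mul_self_of_inv ht, one_mul]
      _ = t * (t * c) * c := by group
      _ = t * (c * t) * c := by rw [h2.eq]
      _ = (t * c) * (t * c) := by group
      _ = 1 := h4
  have h6 := h.K_sq hk h5
  exact inv_mul_eq_one.mp h6

theorem order_quot {t : G} (ht : orderOf t = 2) : orderOf (t : G ⧸ K G) = 2 := by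
  apply orderOf_two_of
  · intro h0
    have h1 : t ∈ K G := (QuotientGroup.eq_one_iff t).1 h0
    have h2 := h.K_sq h1 (mul_self_of_inv ht)
    rw [h2] at ht
    simp at ht
  · rw [← QuotientGroup.mk_mul, mul_self_of_inv ht]
    rfl

theorem lift_inv (y : G ⧸ K G) (hy : orderOf y = 2) :
    ∃ t : G, orderOf t = 2 ∧ (t : G ⧸ K G) = y := by
  obtain ⟨x, rfl⟩ := QuotientGroup.mk_surjective y
  obtain ⟨k, hk⟩ := h.odd_card_K
  set m := Nat.card (K G) with hm
  have h1 : ((x * x : G) : G ⧸ K G) = 1 := by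
    rw [QuotientGroup.mk_mul]
    exact mul_self_of_inv hy
  have h2 : x * x ∈ K G := (QuotientGroup.eq_one_iff _).1 h1
  have h3 : (x * x) ^ m = 1 := by
    have := pow_card_eq_one' (x := (⟨x * x, h2⟩ : K G))
    exact congrArg Subtype.val this
  have h4 : ((x ^ m : G) : G ⧸ K G) = (x : G ⧸ K G) := by
    rw [QuotientGroup.mk_pow, hk, pow_succ, pow_mul, pow_two, mul_self_of_inv hy, one_pow, one_mul]
  refine ⟨x ^ m, orderOf_two_of ?_ ?_, h4⟩
  · intro h0
    rw [h0] at h4
    have h5 : (x : G ⧸ K G) = 1 := h4.symm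
    rw [h5] at hy
    simp at hy
  · rw [← (Commute.refl x).mul_pow m, h3]

theorem hyp_quot : Hyp (G ⧸ K G) := by
  constructor
  · intro t x y ht hx hy
    obtain ⟨t₀, ht₀, rfl⟩ := h.lift_inv t ht
    obtain ⟨x₀, rfl⟩ := QuotientGroup.mk_surjective x
    obtain ⟨y₀, rfl⟩ := QuotientGroup.mk_surjective y
    have h1 := h.commute_of_quot ht₀ hx
    have h2 := h.commute_of_quot ht₀ hy
    have h3 := h.comm t₀ x₀ y₀ ht₀ h1 h2
    show (x₀ : G ⧸ K G) * (y₀ : G ⧸ K G) = (y₀ : G ⧸ K G) * (x₀ : G ⧸ K G)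
    rw [← QuotientGroup.mk_mul, ← QuotientGroup.mk_mul, h3.eq]
  · obtain ⟨t, t', ht, ht', hne, hc⟩ := h.ex_comm
    refine ⟨(t : G ⧸ K G), (t' : G ⧸ K G), h.order_quot ht, h.order_quot ht', ?_, ?_⟩
    · intro h0
      have h1 : t⁻¹ * t' ∈ K G := QuotientGroup.eq.1 h0
      have h2 : (t⁻¹ * t') * (t⁻¹ * t') = 1 := by
        rw [inv_of_inv ht]
        calc t * t' * (t * t') = t * (t' * t) * t' := by group
          _ = t * (t * t') * t' := by rw [hc.eq]
          _ = (t * t) * (t' * t') := by group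
          _ = 1 := by rw [mul_self_of_inv ht, mul_self_of_inv ht', one_mul]
      have h3 := h.K_sq h1 h2
      exact hne (inv_mul_eq_one.mp h3)
    · show (t : G ⧸ K G) * (t' : G ⧸ K G) = (t' : G ⧸ K G) * (t : G ⧸ K G)
      rw [← QuotientGroup.mk_mul, ← QuotientGroup.mk_mul, hc.eq]
  · obtain ⟨s, s', hs, hs', hn⟩ := h.ex_non
    refine ⟨(s : G ⧸ K G), (s' : G ⧸ K G), h.order_quot hs, h.order_quot hs', ?_⟩
    intro hc
    exact hn (h.commute_of_quot hs' hc)

/-- An element of odd order in the quotient has only lifts of odd order. -/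
theorem odd_lift {x : G} (hx : Odd (orderOf (x : G ⧸ K G))) : Odd (orderOf x) := by
  set r := orderOf (x : G ⧸ K G) with hr
  have h1 : ((x ^ r : G) : G ⧸ K G) = 1 := by
    rw [QuotientGroup.mk_pow, hr, pow_orderOf_eq_one]
  have h2 : x ^ r ∈ K G := (QuotientGroup.eq_one_iff _).1 h1
  have h3 : (x ^ r) ^ Nat.card (K G) = 1 := by
    have := pow_card_eq_one' (x := (⟨x ^ r, h2⟩ : K G))
    exact congrArg Subtype.val this
  rw [← pow_mul] at h3
  have h4 : orderOf x ∣ r * Nat.card (K G) := orderOf_dvd_of_pow_eq_one h3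
  exact Odd.of_dvd_nat (hx.mul h.odd_card_K) h4

/-- If odd elements commuting with an involution commute with all involutions, then distinct
points of the quotient meet trivially. -/
theorem w1_quot (p1 : P1 G) : W1 (G ⧸ K G) := by
  intro a b hab x hxa hxb
  have hq := h.hyp_quot
  have hodd := hq.odd_of_mem_two hab hxa hxb
  obtain ⟨x₀, rfl⟩ := QuotientGroup.mk_surjective x
  have hodd0 := h.odd_lift hodd
  obtain ⟨t, ht, hta⟩ := exists_inv a
  obtain ⟨t₀, ht₀, rfl⟩ := h.lift_inv t ht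
  have h1 : Commute (x₀ : G ⧸ K G) (t₀ : G ⧸ K G) := (hq.mem_iff ht hta).1 hxa
  have h2 := h.commute_of_quot ht₀ h1
  have h3 : x₀ ∈ K G := mem_K.2 fun t' ht' => p1 x₀ t₀ t' hodd0 ht₀ ht' h2
  exact (QuotientGroup.eq_one_iff _).2 h3

/-- The centralizer of an element in two points has the same structure. -/
theorem hyp_cent {a b : Pt G} (hab : a ≠ b) {x : G} (hxa : x ∈ a.1) (hxb : x ∈ b.1) :
    Hyp (Subgroup.centralizer ({x} : Set G)) := by
  have hmem : ∀ {d : Pt G} {y : G}, x ∈ d.1 → y ∈ d.1 → y ∈ Subgroup.centralizer ({x} : Set G) :=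
    fun {d y} hx hy => mem_cent.2 (h.comm_of_mem d hy hx)
  constructor
  · rintro ⟨t, ht⟩ ⟨y, hy⟩ ⟨z, hz⟩ hto hyc hzc
    have h1 : orderOf t = 2 := by
      rw [← Subgroup.orderOf_mk t ht]
      exact hto
    have h2 : Commute y t := congrArg Subtype.val hyc
    have h3 : Commute z t := congrArg Subtype.val hzc
    exact Subtype.ext (h.comm t y z h1 h2 h3).eq
  · obtain ⟨t₁, t₂, h1, h2, hne, h1a, h2a⟩ := h.exists_two_inv a
    refine ⟨⟨t₁, hmem hxa h1a⟩, ⟨t₂, hmem hxa h2a⟩, ?_, ?_, ?_, ?_⟩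
    · rw [Subgroup.orderOf_mk]
      exact h1
    · rw [Subgroup.orderOf_mk]
      exact h2
    · intro h0
      exact hne (congrArg Subtype.val h0)
    · exact Subtype.ext (h.comm_of_mem a h1a h2a).eq
  · obtain ⟨t, ht, hta⟩ := exists_inv a
    obtain ⟨t', ht', htb⟩ := exists_inv b
    refine ⟨⟨t, hmem hxa hta⟩, ⟨t', hmem hxb htb⟩, ?_, ?_, ?_⟩
    · rw [Subgroup.orderOf_mk]
      exact ht
    · rw [Subgroup.orderOf_mk]
      exact ht'
    · intro hc
      exact h.not_comm hab ht ht' hta htb (congrArg Subtype.val hc)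

end Hyp

end Cfsg.Agent.Lib.InvCent
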