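import Mathlib
import Cfsg.Agent.Lib.InvCent.Quot

/-!
Elements of odd order commuting with one involution commute with all involutions.
-/

set_option autoImplicit false
set_option linter.unusedSectionVars false
set_option linter.unusedVariables false
set_option linter.style.haveILetI false

namespace Cfsg.Agent.Lib.InvCent

universe u

/-- Two points meet non-trivially. -/
def R {G : Type u} [Group G] (a d : Pt G) : Prop := ∃ x : G, x ≠ 1 ∧ x ∈ a.1 ∧ x ∈ d.1

theorem R_symm {G : Type u} [Group G] {a d : Pt G} (h : R a d) : R d a := by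
  obtain ⟨x, h1, h2, h3⟩ := h
  exact ⟨x, h1, h3, h2⟩

theorem R_refl {G : Type u} [Group G] (a : Pt G) : R a a := by
  obtain ⟨t, ht, hta⟩ := exists_inv a
  refine ⟨t, ?_, hta, hta⟩
  rintro rfl
  simp at ht

theorem R_smul {G : Type u} [Group G] (g : G) {a d : Pt G} (h : R a d) : R (g • a) (g • d) := by
  obtain ⟨x, h1, h2, h3⟩ := h
  refine ⟨g * x * g⁻¹, ?_, conj_mem_smul h2, conj_mem_smul h3⟩
  intro h0
  apply h1
  have : x = g⁻¹ * (g * x * g⁻¹) * g := by group
  rw [this, h0]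
  group

namespace Hyp

variable {G : Type u} [Group G] [Finite G]

theorem core (h : Hyp G) (hK : K G = ⊥) (ih : ∀ H : Subgroup G, H ≠ ⊤ → Hyp H → P1 H)
    (w : ¬ W1 G) : False := by
  classical
  have hprop : ∀ x : G, x ≠ 1 → Subgroup.centralizer ({x} : Set G) ≠ ⊤ := by
    intro x hx h0
    apply hx
    have h1 : x ∈ K G := mem_K.2 fun t _ => by
      have h2 : t ∈ Subgroup.centralizer ({x} : Set G) := by
        rw [h0]
        trivial
      exact (mem_cent.1 h2).symm
    rw [hK] at h1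
    exact h1
  have star : ∀ {a d : Pt G}, R a d → ∀ z ∈ a.1, Odd (orderOf z) → z ∈ d.1 := by
    rintro a d ⟨x, hx1, hxa, hxd⟩ z hz hodd
    by_cases had : a = d
    · rwa [← had]
    have hY := h.hyp_cent had hxa hxd
    have p1 := ih _ (hprop x hx1) hY
    obtain ⟨t, ht, hta⟩ := exists_inv a
    obtain ⟨t', ht', htd⟩ := exists_inv d
    have hzY : z ∈ Subgroup.centralizer ({x} : Set G) := mem_cent.2 (h.comm_of_mem a hz hxa)
    have htY : t ∈ Subgroup.centralizer ({x} : Set G) := mem_cent.2 (h.comm_of_mem a hta hxa)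
    have ht'Y : t' ∈ Subgroup.centralizer ({x} : Set G) := mem_cent.2 (h.comm_of_mem d htd hxd)
    have h1 := p1 ⟨z, hzY⟩ ⟨t, htY⟩ ⟨t', ht'Y⟩ (by rwa [Subgroup.orderOf_mk])
      (by rwa [Subgroup.orderOf_mk]) (by rwa [Subgroup.orderOf_mk])
      (Subtype.ext (h.comm_of_mem a hz hta).eq)
    have hc : Commute z t' := congrArg Subtype.val h1
    exact (h.mem_iff ht' htd).2 hc
  have Rtrans : ∀ {a d e : Pt G}, R a d → R d e → R a e := by
    rintro a d e ⟨x, hx1, hxa, hxd⟩ hde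
    by_cases had : a = d
    · rwa [had]
    exact ⟨x, hx1, hxa, star hde x hxd (h.odd_of_mem_two had hxa hxd)⟩
  -- the initial data
  unfold W1 at w
  push_neg at w
  obtain ⟨a, b₀, hab₀, x₁, hx₁a, hx₁b, hx₁⟩ := w
  have hx₁odd := h.odd_of_mem_two hab₀ hx₁a hx₁b
  have partner : ∀ b : Pt G, ∃ b' : Pt G, b ≠ b' ∧ R b b' := by
    intro b
    obtain ⟨g, hg⟩ := h.exists_smul a b
    refine ⟨g • b₀, ?_, ?_⟩
    · rw [← hg]
      intro h0
      exact hab₀ (smul_left_cancel g h0)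
    · rw [← hg]
      exact R_smul g ⟨x₁, hx₁, hx₁a, hx₁b⟩
  -- a point stabilizer centralizes the odd elements of the point
  have C1 : ∀ {b : Pt G} {z g : G}, z ∈ b.1 → Odd (orderOf z) → g • b = b → Commute g z := by
    intro b z g hz hodd hg
    obtain ⟨b', hbb', hR⟩ := partner b
    have hzb' := star hR z hz hodd
    obtain ⟨k, hkb, hkb', hk⟩ := h.exists_factor hbb' hg
    obtain ⟨t₀, ht₀, ht₀b⟩ := exists_inv b
    obtain ⟨s, hs, hsb'⟩ := exists_inv b'
    have hs₁o : orderOf (k * s * k⁻¹) = 2 := by rw [orderOf_conj, hs]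
    have hs₁b' : k * s * k⁻¹ ∈ b'.1 := h.conj_mem_of_fix hkb' hsb'
    obtain ⟨v, hv, e, -, -, hvc⟩ := h.swap_of_inv hbb' ht₀ hs ht₀b hsb'
    obtain ⟨v₁, hv₁, e₁, -, -, hv₁c⟩ := h.swap_of_inv hbb' ht₀ hs₁o ht₀b hs₁b'
    have hzt₀ : Commute z t₀ := h.comm_of_mem b hz ht₀b
    have hzs : Commute z s := h.comm_of_mem b' hzb' hsb'
    have hzs₁ : Commute z (k * s * k⁻¹) := h.comm_of_mem b' hzb' hs₁b'
    have hzv := hvc z hzt₀ hzs
    have hzv₁ := hv₁c z hzt₀ hzs₁
    have hvv := mul_self_of_inv hv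
    have hv₁v₁ := mul_self_of_inv hv₁
    have hy : k⁻¹ * (v₁ * v) ∈ b'.1 := by
      apply (h.mem_iff hs hsb').2
      show k⁻¹ * (v₁ * v) * s = s * (k⁻¹ * (v₁ * v))
      have h1 : v * s * v = t₀ := by
        rw [← e]
        calc v * (v * t₀ * v) * v = (v * v) * t₀ * (v * v) := by group
          _ = t₀ := by rw [hvv, one_mul, mul_one]
      have h2 : (v₁ * v) * s = k * s * k⁻¹ * (v₁ * v) := by
        rw [← e₁, ← h1]
        calc v₁ * v * s = v₁ * (v * s * 1) := by group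
          _ = v₁ * (v * s * (v * v)) := by rw [hvv]
          _ = v₁ * (v * s * v) * 1 * v := by group
          _ = v₁ * (v * s * v) * (v₁ * v₁) * v := by rw [hv₁v₁]
          _ = _ := by group
      calc k⁻¹ * (v₁ * v) * s = k⁻¹ * ((v₁ * v) * s) := by group
        _ = k⁻¹ * (k * s * k⁻¹ * (v₁ * v)) := by rw [h2]
        _ = _ := by group
    have hzy : Commute z (k⁻¹ * (v₁ * v)) := h.comm_of_mem b' hzb' hy
    have hzk : Commute z k := by
      have h1 : k = (v₁ * v) * (k⁻¹ * (v₁ * v))⁻¹ := by group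
      rw [h1]
      exact (hzv₁.mul_right hzv).mul_right hzy.inv_right
    have hzg : Commute z g := by
      have h1 : g = k * (k⁻¹ * g) := by group
      rw [h1]
      exact hzk.mul_right (h.comm_of_mem b hz hk)
    exact hzg.symm
  have C2 : ∀ {b : Pt G} {z g : G}, z ∈ b.1 → Odd (orderOf z) → R b (g • b) → Commute g z := by
    intro b z g hz hodd hR
    by_cases hb : g • b = b
    · exact C1 hz hodd hb
    have hzd := star hR z hz hodd
    obtain ⟨t, ht, htb⟩ := exists_inv b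
    obtain ⟨s, hs, hsd⟩ := exists_inv (g • b)
    obtain ⟨v, hv, -, h1, h2, hvc⟩ := h.swap_of_inv (Ne.symm hb) ht hs htb hsd
    have hvz := (hvc z (h.comm_of_mem b hz htb) (h.comm_of_mem _ hzd hsd))
    have h3 : (v * g) • b = b := by rw [mul_smul, h2]
    have h4 := C1 hz hodd h3
    have h5 : g = v * (v * g) := by
      rw [← mul_assoc, mul_self_of_inv hv, one_mul]
    rw [h5]
    exact hvz.symm.mul_left h4
  -- a point not related to `a`
  obtain ⟨b, hnR⟩ : ∃ b : Pt G, ¬ R a b := by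
    by_contra hall
    push_neg at hall
    apply hx₁
    have h1 : x₁ ∈ K G := mem_K.2 fun t ht =>
      mem_pt.1 (star (hall (pt t ht)) x₁ hx₁a hx₁odd)
    rw [hK] at h1
    exact h1
  have hab : a ≠ b := by
    rintro rfl
    exact hnR (R_refl a)
  obtain ⟨b', hbb', x₂, hx₂, hx₂b, hx₂b'⟩ := partner b
  have hx₂odd := h.odd_of_mem_two hbb' hx₂b hx₂b'
  have hY := h.hyp_cent hbb' hx₂b hx₂b'
  have p1Y := ih _ (hprop x₂ hx₂) hY
  set Y := Subgroup.centralizer ({x₂} : Set G) with hYdef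
  let P : Subgroup G := Subgroup.centralizer ({x₁} : Set G) ⊓ Y
  obtain ⟨t, ht, hta⟩ := exists_inv a
  obtain ⟨t', ht', htb⟩ := exists_inv b
  obtain ⟨u, hu, eu, hua, hub, -⟩ := h.swap_of_inv hab ht ht' hta htb
  have huu := mul_self_of_inv hu
  have hu' : u * t' * u = t := by
    rw [← eu]
    calc u * (u * t * u) * u = (u * u) * t * (u * u) := by group
      _ = t := by rw [huu, one_mul, mul_one]
  have claimA : ∀ w : G, orderOf w = 2 → Commute w x₂ → ∃ g ∈ P, g * t' * g⁻¹ = w := by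
    intro w hw hwc
    have hx₂d : x₂ ∈ (pt w hw).1 := mem_pt.2 hwc.symm
    have hRbd : R b (pt w hw) := ⟨x₂, hx₂, hx₂b, hx₂d⟩
    have had : a ≠ pt w hw := by
      intro h0
      apply hnR
      rw [h0]
      exact R_symm hRbd
    obtain ⟨v, hv, ev, hva, hvd, -⟩ := h.swap_of_inv had ht hw hta (self_mem_pt hw)
    have hgb : (v * u) • b = pt w hw := by rw [mul_smul, hub, hva]
    have c2 : Commute (v * u) x₂ := C2 hx₂b hx₂odd (by rw [hgb]; exact hRbd)
    have hRa : R a ((v * u) • a) := by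
      have h1 := R_smul v (R_symm hRbd)
      rw [hvd] at h1
      rwa [mul_smul, hua]
    have c1 : Commute (v * u) x₁ := C2 hx₁a hx₁odd hRa
    refine ⟨v * u, ⟨mem_cent.2 c1, mem_cent.2 c2⟩, ?_⟩
    rw [mul_inv_rev, inv_of_inv hu, inv_of_inv hv]
    calc v * u * t' * (u * v) = v * (u * t' * u) * v := by group
      _ = w := by rw [hu', ev]
  have claimB : ∀ w ∈ P, w * w = 1 → w = 1 := by
    intro w hw hww
    by_contra hne
    have ho := orderOf_two_of hne hww
    have h1 : x₁ ∈ (pt w ho).1 := mem_pt.2 (mem_cent.1 hw.1).symm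
    have h2 : x₂ ∈ (pt w ho).1 := mem_pt.2 (mem_cent.1 hw.2).symm
    exact hnR (Rtrans (⟨x₁, hx₁, hx₁a, h1⟩ : R a (pt w ho)) (R_symm ⟨x₂, hx₂, hx₂b, h2⟩))
  have hPodd : ∀ g ∈ P, Odd (orderOf g) := by
    intro g hg
    by_contra hodd
    rw [Nat.not_odd_iff_even] at hodd
    obtain ⟨j, hj⟩ := hodd
    have hpos : 0 < orderOf g := orderOf_pos _
    have hj0 : j ≠ 0 := by omega
    have hw1 : g ^ j ≠ 1 := pow_ne_one_of_lt_orderOf hj0 (by omega)
    have hw2 : g ^ j * g ^ j = 1 := by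
      rw [← pow_add, ← hj, pow_orderOf_eq_one]
    exact hw1 (claimB _ (P.pow_mem hg j) hw2)
  -- the quotient of the centralizer
  have hQ := hY.hyp_quot
  have wQ := hY.w1_quot p1Y
  let X : Subgroup (Y ⧸ K Y) := (P.subgroupOf Y).map (QuotientGroup.mk' (K Y))
  have ht'Y : t' ∈ Y := mem_cent.2 (h.comm_of_mem b htb hx₂b)
  have ht'o : orderOf (⟨t', ht'Y⟩ : Y) = 2 := by rwa [Subgroup.orderOf_mk]
  refine hQ.no_transitive wQ X ?_ (hY.order_quot ht'o) ?_
  · rintro _ ⟨⟨g, hgY⟩, hg, rfl⟩ hxx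
    have hgP : g ∈ P := Subgroup.mem_subgroupOf.1 hg
    have h1 := hPodd g hgP
    have h2 : orderOf (QuotientGroup.mk' (K Y) (⟨g, hgY⟩ : Y)) ∣ orderOf g := by
      have := orderOf_map_dvd (QuotientGroup.mk' (K Y)) (⟨g, hgY⟩ : Y)
      rwa [Subgroup.orderOf_mk] at this
    have h3 : orderOf (QuotientGroup.mk' (K Y) (⟨g, hgY⟩ : Y)) ∣ 2 :=
      orderOf_dvd_of_pow_eq_one (by rw [pow_two]; exact hxx)
    have h4 := Odd.of_dvd_nat h1 h2
    rcases (Nat.dvd_prime Nat.prime_two).1 h3 with h5 | h5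
    · exact orderOf_eq_one_iff.1 h5
    · rw [h5] at h4
      exact absurd h4 (by decide)
  · intro w hw
    obtain ⟨⟨w₀, hw₀Y⟩, hw₀, rfl⟩ := hY.lift_inv w hw
    have h1 : orderOf w₀ = 2 := by rwa [Subgroup.orderOf_mk] at hw₀
    obtain ⟨g, hg, hgt⟩ := claimA w₀ h1 (mem_cent.1 hw₀Y)
    have hgY : g ∈ Y := hg.2
    refine ⟨QuotientGroup.mk' (K Y) ⟨g, hgY⟩, ⟨⟨g, hgY⟩, Subgroup.mem_subgroupOf.2 hg, rfl⟩, ?_⟩
    have h2 : (⟨g, hgY⟩ : Y) * ⟨t', ht'Y⟩ * (⟨g, hgY⟩ : Y)⁻¹ = ⟨w₀, hw₀Y⟩ := Subtype.ext hgt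
    rw [← h2]
    rfl

end Hyp

/-- The main statement by induction on the order of the group. -/
theorem p1_all : ∀ (n : ℕ) (G : Type u) [Group G] [Finite G], Nat.card G = n → Hyp G → P1 G := by
  intro n
  induction n using Nat.strong_induction_on with
  | _ n ih =>
    intro G _ _ hn h
    by_cases hK : K G = ⊥
    · by_cases w : W1 G
      · intro z t t' hodd ht ht' hc
        have hz : z ∈ (pt t ht).1 := mem_pt.2 hc
        have h1 := h.sq_eq_one w hz
        have h2 : orderOf z ∣ 2 := orderOf_dvd_of_pow_eq_one (by rw [pow_two]; exact h1)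
        rcases (Nat.dvd_prime Nat.prime_two).1 h2 with h5 | h5
        · rw [orderOf_eq_one_iff.1 h5]
          exact Commute.one_left _
        · rw [h5] at hodd
          exact absurd hodd (by decide)
      · refine (h.core hK (fun H hH hyp => ?_) w).elim
        refine ih (Nat.card H) ?_ H rfl hyp
        rw [← hn]
        apply lt_of_le_of_ne (Subgroup.card_le_card_group H)
        intro h0
        exact hH (Subgroup.eq_top_of_card_eq H h0)
    · have hlt : Nat.card (G ⧸ K G) < n := by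
        rw [← hn, Subgroup.card_eq_card_quotient_mul_card_subgroup (K G)]
        have h1 : 1 < Nat.card (K G) := by
          have h2 : Nat.card (K G) ≠ 1 := by
            intro h0
            exact hK (Subgroup.eq_bot_of_card_eq _ h0)
          have h3 : 0 < Nat.card (K G) := Nat.card_pos
          omega
        have h4 : 0 < Nat.card (G ⧸ K G) := Nat.card_pos
        exact lt_mul_of_one_lt_right h4 h1
      have p1 := ih _ hlt (G ⧸ K G) rfl h.hyp_quot
      intro z t t' hodd ht ht' hc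
      have h1 : Odd (orderOf (z : G ⧸ K G)) :=
        Odd.of_dvd_nat hodd (orderOf_map_dvd (QuotientGroup.mk' (K G)) z)
      have hc' : Commute (z : G ⧸ K G) (t : G ⧸ K G) := by
        show (z : G ⧸ K G) * (t : G ⧸ K G) = (t : G ⧸ K G) * (z : G ⧸ K G)
        rw [← QuotientGroup.mk_mul, ← QuotientGroup.mk_mul, hc.eq]
      exact h.commute_of_quot ht' (p1 _ _ _ h1 (h.order_quot ht) (h.order_quot ht') hc')

theorem Hyp.p1 {G : Type u} [Group G] [Finite G] (h : Hyp G) : P1 G := p1_all _ G rfl h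

end Cfsg.Agent.Lib.InvCent
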