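import Mathlib
import Cfsg.Agent.S0265

/-!
`SL₂` over a finite field of characteristic two: its centre is trivial, it is isomorphic to `PGL₂`
and `PSL₂`, commuting is transitive on the non-identity elements and the centralizers of elements
whose square is not the identity are cyclic.
-/

set_option autoImplicit false
set_option linter.unusedSectionVars false
set_option linter.unusedVariables false
set_option linter.style.haveILetI false

open scoped MatrixGroups

namespace Cfsg.Agent.Lib.InvCent

variable {F : Type*} [Field F] [CharP F 2]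

theorem sq_eq_one_char2 {r : F} (h : r ^ 2 = 1) : r = 1 := by
  have h1 : (r + 1) ^ 2 = 0 := by
    have h2 : (r + 1) ^ 2 = r ^ 2 + 1 + 2 * r := by ring
    have h3 : (2 : F) = 0 := CharTwo.two_eq_zero
    rw [h2, h, h3, zero_mul, add_zero, CharTwo.add_self_eq_zero]
  have h2 : r + 1 = 0 := by simpa using h1
  have h3 : r = -1 := eq_neg_of_add_eq_zero_left h2
  rw [h3, CharTwo.neg_eq]

theorem center_SL_eq_bot : Subgroup.center SL(2, F) = ⊥ := by
  rw [eq_bot_iff]
  intro A hA
  rw [Matrix.SpecialLinearGroup.mem_center_iff] at hA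
  obtain ⟨r, hr, hA⟩ := hA
  rw [Fintype.card_fin] at hr
  have h1 := sq_eq_one_char2 hr
  rw [Subgroup.mem_bot]
  apply Subtype.ext
  rw [← hA, h1]
  simp

/-- `SL₂` and `PSL₂` agree in characteristic two. -/
noncomputable def equivPSL : SL(2, F) ≃* Matrix.ProjectiveSpecialLinearGroup (Fin 2) F :=
  MulEquiv.ofBijective (QuotientGroup.mk' (Subgroup.center SL(2, F))) ⟨by
    rw [← MonoidHom.ker_eq_bot_iff, QuotientGroup.ker_mk', center_SL_eq_bot],
    QuotientGroup.mk'_surjective _⟩

/-- `SL₂` and `PGL₂` agree for a finite field of characteristic two. -/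
theorem nonempty_equivPGL [Fintype F] :
    Nonempty (SL(2, F) ≃* Matrix.ProjGenLinGroup (Fin 2) F) := by
  have hinj : Function.Injective (Matrix.SpecialLinearGroup.toPGL (n := Fin 2) (R := F)) := by
    rw [← MonoidHom.ker_eq_bot_iff, Matrix.SpecialLinearGroup.toPGL_ker, center_SL_eq_bot]
  have hcard : Nat.card SL(2, F) = Nat.card (Matrix.ProjGenLinGroup (Fin 2) F) :=
    (Cfsg.Agent.S0265.result 2).symm
  haveI : Finite SL(2, F) := inferInstance
  haveI : Finite (Matrix.ProjGenLinGroup (Fin 2) F) := Nat.finite_of_card_ne_zero (by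
    rw [← hcard]
    exact Nat.card_pos.ne')
  have hbij : Function.Bijective (Matrix.SpecialLinearGroup.toPGL (n := Fin 2) (R := F)) :=
    (Nat.bijective_iff_injective_and_card _).2 ⟨hinj, hcard⟩
  exact ⟨MulEquiv.ofBijective _ hbij⟩

/-- A matrix commuting with a non-scalar `2 × 2` matrix is a combination of it and the identity. -/
theorem commute_rep {K : Type*} [Field K] {x y : Matrix (Fin 2) (Fin 2) K}
    (hx : ¬ ∃ r : K, x = r • (1 : Matrix (Fin 2) (Fin 2) K)) (h : x * y = y * x) :
    ∃ α β : K, y = α • (1 : Matrix (Fin 2) (Fin 2) K) + β • x := by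
  have e := fun i j => congrFun (congrFun h i) j
  simp only [Matrix.mul_apply, Fin.sum_univ_two] at e
  have e00 := e 0 0
  have e01 := e 0 1
  have e10 := e 1 0
  have e11 := e 1 1
  have key : ∀ (α β : K), y 0 0 = α + β * x 0 0 → y 0 1 = β * x 0 1 → y 1 0 = β * x 1 0 →
      y 1 1 = α + β * x 1 1 → y = α • (1 : Matrix (Fin 2) (Fin 2) K) + β • x := by
    intro α β h1 h2 h3 h4
    ext i j
    fin_cases i <;> fin_cases j <;> simp [h1, h2, h3, h4]
  by_cases hc : x 1 0 = 0
  · by_cases hb : x 0 1 = 0
    · by_cases had : x 0 0 = x 1 1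
      · exfalso
        apply hx
        refine ⟨x 0 0, ?_⟩
        ext i j
        fin_cases i <;> fin_cases j <;> simp [hc, hb, had]
      · have hne : x 0 0 - x 1 1 ≠ 0 := sub_ne_zero.2 had
        rw [hb] at e01 e00 e11
        rw [hc] at e10 e00 e11
        have hf : y 0 1 = 0 := by
          have h1 : y 0 1 * (x 0 0 - x 1 1) = 0 := by linear_combination e01
          exact (mul_eq_zero.1 h1).resolve_right hne
        have hh : y 1 0 = 0 := by
          have h1 : y 1 0 * (x 0 0 - x 1 1) = 0 := by linear_combination -e10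
          exact (mul_eq_zero.1 h1).resolve_right hne
        refine ⟨y 0 0 - (y 0 0 - y 1 1) / (x 0 0 - x 1 1) * x 0 0,
          (y 0 0 - y 1 1) / (x 0 0 - x 1 1), key _ _ ?_ ?_ ?_ ?_⟩
        · ring
        · rw [hf, hb, mul_zero]
        · rw [hh, hc, mul_zero]
        · field_simp
          ring
    · have hf : y 1 0 = 0 := by
        rw [hc] at e00
        have h1 : x 0 1 * y 1 0 = 0 := by linear_combination e00
        exact (mul_eq_zero.1 h1).resolve_left hb
      refine ⟨y 0 0 - y 0 1 / x 0 1 * x 0 0, y 0 1 / x 0 1, key _ _ ?_ ?_ ?_ ?_⟩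
      · ring
      · field_simp
      · rw [hf, hc, mul_zero]
      · field_simp
        linear_combination e01
  · refine ⟨y 0 0 - y 1 0 / x 1 0 * x 0 0, y 1 0 / x 1 0, key _ _ ?_ ?_ ?_ ?_⟩
    · ring
    · field_simp
      linear_combination -e00
    · field_simp
    · field_simp
      linear_combination -e10

/-- The determinant of a combination. -/
theorem det_rep {K : Type*} [CommRing K] (α β : K) (x : Matrix (Fin 2) (Fin 2) K) :
    (α • (1 : Matrix (Fin 2) (Fin 2) K) + β • x).det =
      α ^ 2 + α * β * (x 0 0 + x 1 1) + β ^ 2 * x.det := by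
  rw [Matrix.det_fin_two, Matrix.det_fin_two]
  simp
  ring

/-- Cayley-Hamilton in the case at hand. -/
theorem sq_rep {x : Matrix (Fin 2) (Fin 2) F} (hx : x.det = 1) :
    x * x = (x 0 0 + x 1 1) • x + (1 : Matrix (Fin 2) (Fin 2) F) := by
  rw [Matrix.det_fin_two] at hx
  have h2 : (2 : F) = 0 := CharTwo.two_eq_zero
  ext i j
  fin_cases i <;> fin_cases j <;> simp [Matrix.mul_apply, Fin.sum_univ_two]
  · linear_combination (-1 : F) * hx - h2
  · ring
  · ring
  · linear_combination (-1 : F) * hx - h2

/-- Commuting is transitive on the non-identity elements of `SL₂`. -/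
theorem commute_trans_SL {a b c : SL(2, F)} (hb : b ≠ 1) (hab : Commute a b) (hbc : Commute b c) :
    Commute a c := by
  have hns : ¬ ∃ r : F, (b : Matrix (Fin 2) (Fin 2) F) = r • (1 : Matrix (Fin 2) (Fin 2) F) := by
    rintro ⟨r, hr⟩
    apply hb
    have h1 : (b : Matrix (Fin 2) (Fin 2) F).det = 1 := b.2
    rw [hr, Matrix.det_smul, Matrix.det_one, Fintype.card_fin, mul_one] at h1
    have h2 := sq_eq_one_char2 h1
    apply Subtype.ext
    rw [hr, h2]
    simp
  have h1 : (b : Matrix (Fin 2) (Fin 2) F) * (a : Matrix (Fin 2) (Fin 2) F) =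
      (a : Matrix (Fin 2) (Fin 2) F) * (b : Matrix (Fin 2) (Fin 2) F) :=
    congrArg Subtype.val hab.eq.symm
  have h2 : (b : Matrix (Fin 2) (Fin 2) F) * (c : Matrix (Fin 2) (Fin 2) F) =
      (c : Matrix (Fin 2) (Fin 2) F) * (b : Matrix (Fin 2) (Fin 2) F) :=
    congrArg Subtype.val hbc.eq
  obtain ⟨α, β, ha⟩ := commute_rep hns h1
  obtain ⟨α', β', hc⟩ := commute_rep hns h2
  apply Subtype.ext
  show (a : Matrix (Fin 2) (Fin 2) F) * (c : Matrix (Fin 2) (Fin 2) F) =
    (c : Matrix (Fin 2) (Fin 2) F) * (a : Matrix (Fin 2) (Fin 2) F)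
  rw [ha, hc]
  simp only [add_mul, mul_add, smul_mul_assoc, mul_smul_comm, one_mul, mul_one, smul_smul]
  (module)

/-- The centralizer in `SL₂` of an element whose square is not the identity is cyclic. -/
theorem isCyclic_centralizer [Finite F] (g : SL(2, F)) (hg : g * g ≠ 1) :
    IsCyclic (Subgroup.centralizer ({g} : Set SL(2, F))) := by
  classical
  set G : Matrix (Fin 2) (Fin 2) F := (g : Matrix (Fin 2) (Fin 2) F) with hG
  have hdet : G.det = 1 := g.2
  set τ := G 0 0 + G 1 1 with hτ
  have hsq := sq_rep hdet
  rw [← hτ] at hsq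
  have hτ0 : τ ≠ 0 := by
    intro h0
    apply hg
    apply Subtype.ext
    show G * G = 1
    rw [hsq, h0, zero_smul, zero_add]
  have hns : ¬ ∃ r : F, G = r • (1 : Matrix (Fin 2) (Fin 2) F) := by
    rintro ⟨r, hr⟩
    apply hg
    have h1 := hdet
    rw [hr, Matrix.det_smul, Matrix.det_one, Fintype.card_fin, mul_one] at h1
    have h2 := sq_eq_one_char2 h1
    apply Subtype.ext
    show G * G = 1
    rw [hr, h2]
    simp
  -- uniqueness of the representation
  have huniq : ∀ α β α' β' : F, α • (1 : Matrix (Fin 2) (Fin 2) F) + β • G =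
      α' • (1 : Matrix (Fin 2) (Fin 2) F) + β' • G → α = α' ∧ β = β' := by
    intro α β α' β' h
    by_cases hβ : β = β'
    · subst hβ
      refine ⟨?_, rfl⟩
      have h1 := add_right_cancel h
      have h2 := congrFun (congrFun h1 0) 0
      simpa using h2
    · exfalso
      apply hns
      have hne : β - β' ≠ 0 := sub_ne_zero.2 hβ
      refine ⟨(α' - α) / (β - β'), ?_⟩
      have h1 : (β - β') • G = (α' - α) • (1 : Matrix (Fin 2) (Fin 2) F) := by
        rw [sub_smul, sub_smul]
        have h2 := sub_eq_zero.2 h
        rw [← sub_eq_zero]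
        rw [← h2]
        abel
      have h3 : G = (β - β')⁻¹ • ((β - β') • G) := by
        rw [smul_smul, inv_mul_cancel₀ hne, one_smul]
      rw [h3, h1, smul_smul]
      congr 1
      field_simp
  -- the representation
  have hrep : ∀ y : Subgroup.centralizer ({g} : Set SL(2, F)), ∃ α β : F,
      ((y : SL(2, F)) : Matrix (Fin 2) (Fin 2) F) = α • (1 : Matrix (Fin 2) (Fin 2) F) + β • G := by
    intro y
    apply commute_rep hns
    have h1 := Subgroup.mem_centralizer_singleton_iff.1 y.2
    exact (congrArg Subtype.val h1).symm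
  choose α β hαβ using hrep
  -- a root in the algebraic closure
  let E := AlgebraicClosure F
  obtain ⟨l, hl⟩ : ∃ l : E, l ^ 2 + algebraMap F E τ * l + 1 = 0 := by
    let p : Polynomial E := Polynomial.C 1 * Polynomial.X ^ 2 +
      Polynomial.C (algebraMap F E τ) * Polynomial.X + Polynomial.C 1
    have hdeg : p.degree = 2 := Polynomial.degree_quadratic one_ne_zero
    obtain ⟨l, hl⟩ := IsAlgClosed.exists_root p (by rw [hdeg]; norm_num)
    refine ⟨l, ?_⟩
    simpa [p, Polynomial.IsRoot] using hl
  have hE2 : (2 : E) = 0 := by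
    have h1 := map_ofNat (algebraMap F E) 2
    rw [← h1, (CharTwo.two_eq_zero : (2 : F) = 0), map_zero]
  have hl2 : l ^ 2 = algebraMap F E τ * l + 1 := by
    linear_combination hl - (algebraMap F E τ * l + 1) * hE2
  -- the other root
  set l' := l + algebraMap F E τ with hl'
  have hll' : l * l' = 1 := by
    rw [hl']
    linear_combination hl - hE2
  -- products
  have hmul : ∀ y y' : Subgroup.centralizer ({g} : Set SL(2, F)),
      α (y * y') = α y * α y' + β y * β y' ∧
      β (y * y') = α y * β y' + α y' * β y + β y * β y' * τ := by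
    intro y y'
    apply huniq
    rw [← hαβ]
    have h1 : (((y * y' : Subgroup.centralizer ({g} : Set SL(2, F))) : SL(2, F)) :
        Matrix (Fin 2) (Fin 2) F) = ((y : SL(2, F)) : Matrix (Fin 2) (Fin 2) F) *
        ((y' : SL(2, F)) : Matrix (Fin 2) (Fin 2) F) := rfl
    rw [h1, hαβ y, hαβ y']
    simp only [add_mul, mul_add, smul_mul_assoc, mul_smul_comm, one_mul, mul_one, smul_smul, hsq,
      smul_add]
    (module)
  have hone : α 1 = 1 ∧ β 1 = 0 := by
    apply huniq
    rw [← hαβ]
    simp
  have hdetrep : ∀ y : Subgroup.centralizer ({g} : Set SL(2, F)),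
      α y ^ 2 + α y * β y * τ + β y ^ 2 = 1 := by
    intro y
    have h1 : (((y : SL(2, F)) : Matrix (Fin 2) (Fin 2) F)).det = 1 := (y : SL(2, F)).2
    rw [hαβ y, det_rep, hdet, mul_one] at h1
    exact h1
  let ψ : Subgroup.centralizer ({g} : Set SL(2, F)) →* E :=
    { toFun := fun y => algebraMap F E (α y) + algebraMap F E (β y) * l
      map_one' := by
        rw [hone.1, hone.2]
        simp
      map_mul' := by
        intro y y'
        rw [(hmul y y').1, (hmul y y').2]
        simp only [map_add, map_mul]
        linear_combination (algebraMap F E (β y) * algebraMap F E (β y')) * (-hl2) }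
  have hψ : Function.Injective ψ := by
    intro y y' hyy
    have h1 : algebraMap F E (α y) + algebraMap F E (β y) * l =
        algebraMap F E (α y') + algebraMap F E (β y') * l := hyy
    have hinv : ∀ z : Subgroup.centralizer ({g} : Set SL(2, F)),
        (algebraMap F E (α z) + algebraMap F E (β z) * l) *
          (algebraMap F E (α z) + algebraMap F E (β z) * l') = 1 := by
      intro z
      have h2 := congrArg (algebraMap F E) (hdetrep z)
      simp only [map_add, map_mul, map_pow, map_one] at h2
      have h3 : l + l' = algebraMap F E τ := by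
        rw [hl']
        linear_combination l * hE2
      calc _ = algebraMap F E (α z) ^ 2 + algebraMap F E (α z) * algebraMap F E (β z) * (l + l')
            + algebraMap F E (β z) ^ 2 * (l * l') := by ring
        _ = 1 := by rw [h3, hll', mul_one]; exact h2
    have hne : algebraMap F E (α y) + algebraMap F E (β y) * l ≠ 0 := by
      intro h0
      have := hinv y
      rw [h0, zero_mul] at this
      exact zero_ne_one this
    have h2 : algebraMap F E (α y) + algebraMap F E (β y) * l' =
        algebraMap F E (α y') + algebraMap F E (β y') * l' := by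
      have h3 := hinv y
      have h4 := hinv y'
      rw [← h1] at h4
      exact mul_left_cancel₀ hne (h3.trans h4.symm)
    have h3 : algebraMap F E (β y) * algebraMap F E τ = algebraMap F E (β y') * algebraMap F E τ := by
      rw [hl'] at h2
      linear_combination h2 - h1
    have h4 : algebraMap F E τ ≠ 0 := by
      intro h0
      apply hτ0
      exact (map_eq_zero _).1 h0
    have h5 : algebraMap F E (β y) = algebraMap F E (β y') := mul_right_cancel₀ h4 h3
    have h6 : β y = β y' := (algebraMap F E).injective h5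
    have h7 : algebraMap F E (α y) = algebraMap F E (α y') := by
      rw [h5] at h1
      exact add_right_cancel h1
    have h8 : α y = α y' := (algebraMap F E).injective h7
    apply Subtype.ext
    apply Subtype.ext
    rw [hαβ y, hαβ y', h6, h8]
  haveI : Finite (Subgroup.centralizer ({g} : Set SL(2, F))) := inferInstance
  exact isCyclic_of_subgroup_isDomain ψ hψ

end Cfsg.Agent.Lib.InvCent
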