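import Mathlib
import Cfsg.Agent.Lib.InvCent.Main
import Cfsg.Agent.Lib.InvCent.SL2
import Cfsg.Agent.Lib.KnownSimple.Schur
import Cfsg.Agent.S0727
import Cfsg.Agent.Lib.OddLocal.PGroupRank2

/-!
The structure theorem: a group with abelian centralizers of involutions, non-cyclic and non-normal
Sylow `2`-subgroups, is the direct product of `SL₂` over a field of characteristic two and an abelian
group of odd order.
-/

set_option autoImplicit false
set_option linter.unusedSectionVars false
set_option linter.unusedVariables false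
set_option linter.style.haveILetI false

open scoped MatrixGroups commutatorElement

namespace Cfsg.Agent.Lib.InvCent

universe u

variable {Q : Type u} [Group Q] [Finite Q]

/-- Under trivial intersections the group is `SL₂`. -/
theorem Hyp.exists_SL (h : Hyp Q) (w : W1 Q) :
    ∃ (F : Type) (_ : Field F) (_ : Fintype F) (f : ℕ), 2 ≤ f ∧ Fintype.card F = 2 ^ f ∧ CharP F 2 ∧
      Nonempty (Q ≃* SL(2, F)) := by
  classical
  haveI := Fintype.ofFinite (Pt Q)
  obtain ⟨f, hf2, hcard⟩ := h.card_pt w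
  obtain ⟨h3, hs⟩ := h.sharp w
  have hZ := h.isZass w
  haveI : FaithfulSMul Q (Pt Q) := hZ.1
  let φ : Q →* Equiv.Perm (Pt Q) := MulAction.toPermHom Q (Pt Q)
  have hφ : Function.Injective φ := by
    intro g₁ g₂ e
    apply FaithfulSMul.eq_of_smul_eq_smul (α := Pt Q)
    intro p
    exact congrArg (fun σ : Equiv.Perm (Pt Q) => σ p) e
  let R : Subgroup (Equiv.Perm (Pt Q)) := φ.range
  let e₀ : Q ≃* R := MonoidHom.ofInjective hφ
  have hα : Fintype.card (Pt Q) = 2 ^ f + 1 := by
    rw [← Nat.card_eq_fintype_card, hcard]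
  have h3' : MulAction.IsMultiplyPretransitive R (Pt Q) 3 := by
    rw [MulAction.isMultiplyPretransitive_iff]
    intro x y
    obtain ⟨g, hg⟩ := (MulAction.isMultiplyPretransitive_iff.1 h3) x y
    refine ⟨⟨φ g, g, rfl⟩, ?_⟩
    ext i
    have h1 := congrArg (fun z : Fin 3 ↪ Pt Q => z i) hg
    exact h1
  have hs' : ∀ x : Fin 3 ↪ Pt Q, MulAction.stabilizer R x = ⊥ := by
    intro x
    rw [eq_bot_iff]
    rintro ⟨_, g, rfl⟩ hr
    rw [MulAction.mem_stabilizer_iff] at hr
    have h1 : g ∈ MulAction.stabilizer Q x := by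
      rw [MulAction.mem_stabilizer_iff]
      ext i
      have h2 := congrArg (fun z : Fin 3 ↪ Pt Q => z i) hr
      exact h2
    rw [hs x, Subgroup.mem_bot] at h1
    rw [Subgroup.mem_bot]
    apply Subtype.ext
    show φ g = 1
    rw [h1, map_one]
  obtain ⟨F, iF, iT, hF, ⟨ψ⟩⟩ := Cfsg.Agent.S0727.result (f := f) (by omega) hα R h3' hs'
  have hchar : CharP F 2 := by
    obtain ⟨p, hp⟩ := CharP.exists F
    haveI := hp
    haveI : Fact p.Prime := ⟨CharP.char_is_prime F p⟩
    obtain ⟨n, hpp, hn⟩ := FiniteField.card F p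
    rw [hF] at hn
    have h1 : p ∣ 2 ^ f := by
      rw [hn]
      exact dvd_pow_self p n.ne_zero
    have h2 := (Nat.prime_dvd_prime_iff_eq hpp Nat.prime_two).1 (hpp.dvd_of_dvd_pow h1)
    rwa [h2] at hp
  obtain ⟨ξ⟩ := nonempty_equivPGL (F := F)
  exact ⟨F, iF, iT, f, hf2, hF, hchar, ⟨(e₀.trans ψ).trans ξ.symm⟩⟩

/-- Under trivial intersections the group is generated by its involutions. -/
theorem Hyp.closure_top (h : Hyp Q) (w : W1 Q) : Subgroup.closure {t : Q | orderOf t = 2} = ⊤ := by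
  classical
  set M := Subgroup.closure {t : Q | orderOf t = 2} with hM
  have hinv : ∀ {t : Q}, orderOf t = 2 → t ∈ M := fun ht => Subgroup.subset_closure ht
  obtain ⟨s, s', hs, hs', hn⟩ := h.ex_non
  set a : Pt Q := pt s hs with ha
  obtain ⟨b, hab⟩ := h.exists_ne a
  have step1 : ∀ x ∈ a.1, x ∈ M := by
    intro x hx
    by_cases hx1 : x = 1
    · rw [hx1]
      exact M.one_mem
    · exact hinv (orderOf_two_of hx1 (h.sq_eq_one w hx))
  have step2 : ∀ k : Q, k • a = a → k • b = b → k ∈ M := by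
    intro k h1 h2
    obtain ⟨u, hu, hua, hub⟩ := h.swap_pts hab
    have h3 := h.invert w hab h1 h2 hu hua
    have h4 : (k * u) * (k * u) = 1 := by
      calc (k * u) * (k * u) = k * (u * k * u) := by group
        _ = 1 := by rw [h3, mul_inv_cancel]
    have h5 : k * u ≠ 1 := by
      intro h0
      have h6 : (k * u) • a = b := by rw [mul_smul, hua, h2]
      rw [h0, one_smul] at h6
      exact hab h6
    have h6 : k = (k * u) * u := by
      rw [mul_assoc, mul_self_of_inv hu, mul_one]
    rw [h6]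
    exact M.mul_mem (hinv (orderOf_two_of h5 h4)) (hinv hu)
  have step3 : ∀ g : Q, g • a = a → g ∈ M := by
    intro g hg
    obtain ⟨k, hk1, hk2, hk⟩ := h.exists_factor hab hg
    have h1 : g = k * (k⁻¹ * g) := by group
    rw [h1]
    exact M.mul_mem (step2 k hk1 hk2) (step1 _ hk)
  rw [eq_top_iff]
  intro g _
  by_cases hg : g • a = a
  · exact step3 g hg
  · obtain ⟨v, hv, h1, h2⟩ := h.swap_pts (Ne.symm hg)
    have h3 : (v * g) • a = a := by rw [mul_smul, h2]
    have h4 := step3 _ h3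
    have h5 : g = v * (v * g) := by
      rw [← mul_assoc, mul_self_of_inv hv, one_mul]
    rw [h5]
    exact M.mul_mem (hinv hv) h4

/-- Involutions lie in the commutator subgroup. -/
theorem Hyp.inv_mem_commutator (h : Hyp Q) {s : Q} (hs : orderOf s = 2) : s ∈ commutator Q := by
  classical
  set a : Pt Q := pt s hs with ha
  have hsa : s ∈ a.1 := self_mem_pt hs
  obtain ⟨t, ht, hne, hta⟩ : ∃ t : Q, orderOf t = 2 ∧ t ≠ s ∧ t ∈ a.1 := by
    obtain ⟨t₁, t₂, h1, h2, hne, h1a, h2a⟩ := h.exists_two_inv a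
    by_cases h3 : t₁ = s
    · exact ⟨t₂, h2, fun h0 => hne (h3.trans h0.symm), h2a⟩
    · exact ⟨t₁, h1, h3, h1a⟩
  have ht₂ := h.mul_inv_of_mem ht hs hne hta hsa
  have ht₂a : t * s ∈ a.1 := a.1.mul_mem hta hsa
  obtain ⟨b, hab⟩ := h.exists_ne a
  obtain ⟨t₀, ht₀, ht₀b⟩ := exists_inv b
  obtain ⟨u₁, hu₁, e₁, -, -, -⟩ := h.swap_of_inv hab ht ht₀ hta ht₀b
  obtain ⟨u₂, hu₂, e₂, -, -, -⟩ := h.swap_of_inv hab ht₂ ht₀ ht₂a ht₀b
  have h1 : (u₂ * u₁) * t * (u₂ * u₁)⁻¹ = t * s := by
    have h2 : u₂ * t₀ * u₂ = t * s := by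
      rw [← e₂]
      calc u₂ * (u₂ * (t * s) * u₂) * u₂ = (u₂ * u₂) * (t * s) * (u₂ * u₂) := by group
        _ = t * s := by rw [mul_self_of_inv hu₂, one_mul, mul_one]
    rw [mul_inv_rev, inv_of_inv hu₂, inv_of_inv hu₁, ← h2, ← e₁]
    group
  have h2 : s = ⁅u₂ * u₁, t⁆ := by
    rw [commutatorElement_def, h1, inv_of_inv ht, (h.comm_of_mem a hta hsa).eq, mul_assoc,
      mul_self_of_inv ht, mul_one]
  rw [h2, commutator_def]
  exact Subgroup.commutator_mem_commutator (Subgroup.mem_top _) (Subgroup.mem_top _)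

variable {G : Type u} [Group G] [Finite G]

/-- The main structure theorem. -/
theorem Hyp.main (h : Hyp G) :
    ∃ (F : Type) (_ : Field F) (_ : Fintype F) (f : ℕ) (A : Type) (_ : CommGroup A) (_ : Finite A),
      2 ≤ f ∧ Fintype.card F = 2 ^ f ∧ CharP F 2 ∧ Odd (Nat.card A) ∧
      Nonempty (G ≃* SL(2, F) × A) := by
  classical
  have hq := h.hyp_quot
  have wq := h.w1_quot h.p1
  obtain ⟨F, iF, iT, f, hf2, hF, hchar, ⟨θ⟩⟩ := hq.exists_SL wq
  let π : G →* G ⧸ K G := QuotientGroup.mk' (K G)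
  let L : Subgroup G := Subgroup.closure {t : G | orderOf t = 2}
  -- elements of `K` commute with `L`
  have hLK : ∀ x ∈ L, ∀ κ ∈ K G, Commute x κ := by
    intro x hx κ hκ
    induction hx using Subgroup.closure_induction with
    | mem x hx => exact (mem_K.1 hκ x hx).symm
    | one => exact Commute.one_left _
    | mul x y _ _ h1 h2 => exact h1.mul_left h2
    | inv x _ h1 => exact h1.inv_left
  -- `K` is commutative
  obtain ⟨s₀, s₀', hs₀, -, -⟩ := h.ex_non
  have hKc : ∀ κ ∈ K G, ∀ κ' ∈ K G, Commute κ κ' := by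
    intro κ hκ κ' hκ'
    exact h.comm s₀ κ κ' hs₀ (mem_K.1 hκ s₀ hs₀) (mem_K.1 hκ' s₀ hs₀)
  -- `L` covers the quotient
  have hmap : L.map π = ⊤ := by
    rw [eq_top_iff, ← hq.closure_top wq, Subgroup.closure_le]
    intro y hy
    obtain ⟨t, ht, rfl⟩ := h.lift_inv y hy
    exact ⟨t, Subgroup.subset_closure ht, rfl⟩
  have hsup : ∀ g : G, ∃ ℓ ∈ L, ∃ κ ∈ K G, g = ℓ * κ := by
    intro g
    have h1 : π g ∈ L.map π := by
      rw [hmap]
      trivial
    obtain ⟨ℓ, hℓ, h2⟩ := h1
    refine ⟨ℓ, hℓ, ℓ⁻¹ * g, ?_, by group⟩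
    exact QuotientGroup.eq.1 h2
  have hcen : ∀ κ ∈ K G, κ ∈ Subgroup.center G := by
    intro κ hκ
    rw [Subgroup.mem_center_iff]
    intro g
    obtain ⟨ℓ, hℓ, κ', hκ', rfl⟩ := hsup g
    exact ((hLK ℓ hℓ κ hκ).mul_left (hKc κ' hκ' κ hκ)).eq
  -- `L` lies in the commutator subgroup
  have hLcomm : L ≤ commutator G := by
    rw [Subgroup.closure_le]
    intro t ht
    exact h.inv_mem_commutator ht
  -- the map to `SL₂`
  let σ : G →* SL(2, F) := θ.toMonoidHom.comp π
  have hσker : ∀ x : G, σ x = 1 → x ∈ K G := by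
    intro x hx
    have h1 : π x = 1 := by
      apply θ.injective
      rw [map_one]
      exact hx
    exact (QuotientGroup.eq_one_iff x).1 h1
  have hσc : σ.ker ≤ Subgroup.center G := fun x hx => hcen x (hσker x hx)
  -- Sylow subgroups for odd primes are abelian
  have hSylow : ∀ (p : ℕ) [Fact p.Prime], p ≠ 2 → ∀ P : Sylow p G,
      IsMulCommutative (P : Subgroup G) := by
    intro p _ hp2 P
    apply Cfsg.Agent.Lib.KnownSimple.Schur.abelian_of_cyclic_image hσc
    set T : Subgroup SL(2, F) := (P : Subgroup G).map σ with hT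
    have hTp : IsPGroup p T := P.isPGroup'.map σ
    by_cases hTt : Subsingleton T
    · infer_instance
    haveI : Nontrivial T := not_subsingleton_iff_nontrivial.1 hTt
    haveI : Finite T := inferInstance
    haveI : Nontrivial (Subgroup.center T) := hTp.center_nontrivial
    obtain ⟨⟨z, hz⟩, hz1⟩ := _root_.exists_ne (1 : Subgroup.center T)
    have hzz : (z : SL(2, F)) * z ≠ 1 := by
      intro h0
      have h1 : (z : T) * z = 1 := Subtype.ext h0
      have h2 : z ^ 2 = 1 := by rw [pow_two]; exact h1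
      obtain ⟨k, hk⟩ := IsPGroup.iff_orderOf.1 hTp z
      have h3 : orderOf z ∣ 2 := orderOf_dvd_of_pow_eq_one h2
      rw [hk] at h3
      have h4 : z = 1 := by
        rcases Nat.eq_zero_or_pos k with rfl | hkpos
        · rw [← orderOf_eq_one_iff, hk, pow_zero]
        · exfalso
          have h5 : p ∣ 2 := (dvd_pow_self p hkpos.ne').trans h3
          exact hp2 ((Nat.prime_dvd_prime_iff_eq Fact.out Nat.prime_two).1 h5)
      apply hz1
      exact Subtype.ext h4
    haveI := isCyclic_centralizer (z : SL(2, F)) hzz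
    let ι : T →* Subgroup.centralizer ({(z : SL(2, F))} : Set SL(2, F)) :=
      { toFun := fun y => ⟨y, by
          rw [Subgroup.mem_centralizer_singleton_iff]
          have h1 := Subgroup.mem_center_iff.1 hz y
          exact congrArg Subtype.val h1⟩
        map_one' := rfl
        map_mul' := fun _ _ => rfl }
    have hι : Function.Injective ι := by
      intro x y hxy
      have h1 := congrArg (fun w : Subgroup.centralizer ({(z : SL(2, F))} : Set SL(2, F)) =>
        (w : SL(2, F))) hxy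
      exact Subtype.ext h1
    exact isCyclic_of_injective ι hι
  -- `L` and `K` meet trivially
  have hLK1 : ∀ z ∈ L, z ∈ K G → z = 1 := by
    intro z hzL hzK
    by_contra hz1
    have hord : orderOf z ≠ 1 := fun h0 => hz1 (orderOf_eq_one_iff.1 h0)
    obtain ⟨p, hp, hdvd⟩ := Nat.exists_prime_and_dvd hord
    haveI : Fact p.Prime := ⟨hp⟩
    have hbo : orderOf (z ^ (orderOf z / p)) = p := orderOf_pow_orderOf_div (orderOf_pos z).ne' hdvd
    set b := z ^ (orderOf z / p) with hb
    have hbL : b ∈ L := L.pow_mem hzL _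
    have hbK : b ∈ K G := (K G).pow_mem hzK _
    have hp2 : p ≠ 2 := by
      intro h2
      rw [h2] at hbo
      have h3 := h.K_sq hbK (mul_self_of_inv hbo)
      rw [h3] at hbo
      simp at hbo
    have hzp : IsPGroup p (Subgroup.zpowers b) := by
      rw [IsPGroup.iff_card, Nat.card_zpowers, hbo]
      exact ⟨1, (pow_one p).symm⟩
    obtain ⟨P, hP⟩ := hzp.exists_le_sylow
    have hbP : b ∈ (P : Subgroup G) := hP (Subgroup.mem_zpowers b)
    have h3 := Cfsg.Agent.Lib.KnownSimple.Schur.mem_commutator_sylow P (hcen b hbK) (hLcomm hbL) hbP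
    have hab := hSylow p hp2 P
    have h4 : commutator (P : Subgroup G) = ⊥ := by
      rw [eq_bot_iff, commutator_def, Subgroup.commutator_le]
      intro x _ y _
      rw [Subgroup.mem_bot, commutatorElement_eq_one_iff_mul_comm]
      exact mul_comm' x y
    rw [h4, Subgroup.mem_bot] at h3
    have h5 : b = 1 := congrArg Subtype.val h3
    rw [h5, orderOf_one] at hbo
    exact hp.one_lt.ne hbo
  -- the decomposition
  letI : CommGroup (K G) := { (inferInstance : Group (K G)) with
    mul_comm := fun x y => Subtype.ext (hKc x x.2 y y.2).eq }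
  let Φ : L × K G →* G :=
    { toFun := fun x => (x.1 : G) * (x.2 : G)
      map_one' := by simp
      map_mul' := by
        rintro ⟨x₁, y₁⟩ ⟨x₂, y₂⟩
        show (x₁ * x₂ : G) * (y₁ * y₂ : G) = (x₁ * y₁ : G) * (x₂ * y₂ : G)
        have h1 := (hLK x₂ x₂.2 y₁ y₁.2).eq
        calc (x₁ * x₂ : G) * (y₁ * y₂ : G) = x₁ * (x₂ * y₁) * y₂ := by group
          _ = x₁ * (y₁ * x₂) * y₂ := by rw [h1]
          _ = _ := by group }
  have hΦ : Function.Bijective Φ := by
    constructor
    · rw [injective_iff_map_eq_one]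
      rintro ⟨x, y⟩ hxy
      have h1 : (x : G) * (y : G) = 1 := hxy
      have h2 : (x : G) = (y : G)⁻¹ := eq_inv_of_mul_eq_one_left h1
      have h3 : (x : G) = 1 := hLK1 x x.2 (by rw [h2]; exact (K G).inv_mem y.2)
      have h4 : (y : G) = 1 := by
        rw [h3, one_mul] at h1
        exact h1
      exact Prod.ext (Subtype.ext h3) (Subtype.ext h4)
    · intro g
      obtain ⟨ℓ, hℓ, κ, hκ, rfl⟩ := hsup g
      exact ⟨(⟨ℓ, hℓ⟩, ⟨κ, hκ⟩), rfl⟩
  let eΦ : L × K G ≃* G := MulEquiv.ofBijective Φ hΦ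
  -- `L` is isomorphic to `SL₂`
  let ρ : L →* SL(2, F) := σ.comp L.subtype
  have hρ : Function.Bijective ρ := by
    constructor
    · rw [injective_iff_map_eq_one]
      rintro ⟨x, hx⟩ h1
      exact Subtype.ext (hLK1 x hx (hσker x h1))
    · intro y
      obtain ⟨g, hg⟩ := θ.surjective y
      obtain ⟨g₀, rfl⟩ := QuotientGroup.mk_surjective g
      obtain ⟨ℓ, hℓ, κ, hκ, rfl⟩ := hsup g₀
      refine ⟨⟨ℓ, hℓ⟩, ?_⟩
      rw [← hg]
      show θ (π ℓ) = θ ((ℓ * κ : G) : G ⧸ K G)
      congr 1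
      rw [QuotientGroup.mk_mul]
      have h1 : (κ : G ⧸ K G) = 1 := (QuotientGroup.eq_one_iff κ).2 hκ
      rw [h1, mul_one]
      rfl
  let eρ : L ≃* SL(2, F) := MulEquiv.ofBijective ρ hρ
  -- a model of `K` in the lowest universe
  let m := Nat.card (K G)
  let e : K G ≃ {x : Fin m // True} :=
    (Finite.equivFin (K G)).trans (Equiv.subtypeUnivEquiv (fun _ => trivial)).symm
  letI iA : CommGroup {x : Fin m // True} := e.symm.commGroup
  let eA : K G ≃* {x : Fin m // True} := (e.symm.mulEquiv).symm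
  refine ⟨F, iF, iT, f, {x : Fin m // True}, iA, inferInstance, hf2, hF, hchar, ?_, ?_⟩
  · rw [← Nat.card_congr e]
    exact h.odd_card_K
  · exact ⟨eΦ.symm.trans (MulEquiv.prodCongr eρ eA)⟩

/-- A non-trivial Sylow `2`-subgroup has a central involution. -/
theorem exists_central_inv (heven : Even (Nat.card G)) (P : Sylow 2 G) :
    ∃ t ∈ (P : Subgroup G), orderOf t = 2 ∧ ∀ x ∈ (P : Subgroup G), Commute x t := by
  classical
  haveI : Fact (Nat.Prime 2) := ⟨Nat.prime_two⟩
  have hne : (P : Subgroup G) ≠ ⊥ := P.ne_bot_of_dvd_card heven.two_dvd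
  haveI : Nontrivial (P : Subgroup G) := Subgroup.nontrivial_iff_ne_bot _ |>.2 hne
  haveI : Nontrivial (Subgroup.center (P : Subgroup G)) := P.isPGroup'.center_nontrivial
  have hZ : IsPGroup 2 (Subgroup.center (P : Subgroup G)) := P.isPGroup'.to_subgroup _
  obtain ⟨n, hn⟩ := IsPGroup.iff_card.1 hZ
  have hn0 : n ≠ 0 := by
    rintro rfl
    have h1 : Nat.card (Subgroup.center (P : Subgroup G)) = 1 := by simpa using hn
    have h2 := Finite.one_lt_card (α := Subgroup.center (P : Subgroup G))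
    omega
  have hdvd : 2 ∣ Nat.card (Subgroup.center (P : Subgroup G)) := by
    rw [hn]
    exact dvd_pow_self 2 hn0
  obtain ⟨z, hz⟩ := exists_prime_orderOf_dvd_card' (G := Subgroup.center (P : Subgroup G)) 2 hdvd
  refine ⟨((z : P) : G), (z : P).2, ?_, ?_⟩
  · rwa [Subgroup.orderOf_coe, Subgroup.orderOf_coe]
  · intro x hx
    have h1 := Subgroup.mem_center_iff.1 z.2 ⟨x, hx⟩
    exact congrArg Subtype.val h1

/-- The dichotomy reducing to the structure theorem. -/
theorem hyp_or (heven : Even (Nat.card G))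
    (h : ∀ t : G, orderOf t = 2 → IsMulCommutative ↥(Subgroup.centralizer ({t} : Set G))) :
    (∀ P : Sylow 2 G, IsCyclic ↥P) ∨ (∀ P : Sylow 2 G, (P : Subgroup G).Normal) ∨ Hyp G := by
  classical
  by_contra hcon
  rw [not_or, not_or] at hcon
  obtain ⟨h1, h2, h3⟩ := hcon
  push_neg at h1 h2
  obtain ⟨P₁, hP₁⟩ := h1
  obtain ⟨P₂, hP₂⟩ := h2
  apply h3
  haveI : Fact (Nat.Prime 2) := ⟨Nat.prime_two⟩
  have hcomm : ∀ t x y : G, orderOf t = 2 → Commute x t → Commute y t → Commute x y := by
    intro t x y ht hx hy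
    haveI := h t ht
    have h4 := mul_comm' (⟨x, mem_cent.2 hx⟩ : Subgroup.centralizer ({t} : Set G)) ⟨y, mem_cent.2 hy⟩
    exact congrArg Subtype.val h4
  refine ⟨hcomm, ?_, ?_⟩
  · obtain ⟨t, htP, ht, hc⟩ := exists_central_inv heven P₁
    have hab : IsMulCommutative (P₁ : Subgroup G) := by
      refine ⟨⟨?_⟩⟩
      intro x y
      exact Subtype.ext (hcomm t x y ht (hc x x.2) (hc y y.2)).eq
    have hnot : ¬ ∀ u ∈ (P₁ : Subgroup G), u ^ 2 = 1 → u ∈ Subgroup.zpowers t := fun h4 =>
      hP₁ (Cfsg.Agent.Lib.OddLocal.isCyclic_of_forall_pow_mem hab P₁.isPGroup' ht h4)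
    push_neg at hnot
    obtain ⟨u, huP, hu2, hut⟩ := hnot
    have hu1 : u ≠ 1 := by
      rintro rfl
      exact hut (Subgroup.one_mem _)
    have hune : t ≠ u := by
      rintro rfl
      exact hut (Subgroup.mem_zpowers _)
    exact ⟨t, u, ht, orderOf_two_of hu1 (by rw [← pow_two]; exact hu2), hune, (hc u huP).symm⟩
  · have hex : ∃ Q : Sylow 2 G, Q ≠ P₂ := by
      by_contra hall
      push_neg at hall
      apply hP₂
      haveI : Subsingleton (Sylow 2 G) := ⟨fun x y => (hall x).trans (hall y).symm⟩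
      exact Sylow.normal_of_subsingleton P₂
    obtain ⟨Q, hQ⟩ := hex
    obtain ⟨s, hsP, hs, hsc⟩ := exists_central_inv heven P₂
    obtain ⟨s', hsQ, hs', hsc'⟩ := exists_central_inv heven Q
    refine ⟨s, s', hs, hs', ?_⟩
    intro hss
    apply hQ
    -- `Q` normalizes `P₂`
    have hle : (Q : Subgroup G) ≤ P₂ := by
      have h4 : P₂ ∈ MulAction.fixedPoints (Q : Subgroup G) (Sylow 2 G) := by
        rintro ⟨x, hx⟩
        show x • P₂ = P₂
        rw [Sylow.smul_eq_iff_mem_normalizer]
        have hcY : ∀ y ∈ (P₂ : Subgroup G), Commute x y := by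
          intro y hy
          have h5 : Commute y s' := hcomm s y s' hs (hsc y hy) hss.symm
          exact hcomm s' x y hs' (hsc' x hx) h5
        rw [Subgroup.mem_set_normalizer_iff]
        intro y
        constructor
        · intro hy
          have h5 : x * y * x⁻¹ = y := by
            rw [(hcY y hy).eq]
            group
          rwa [h5]
        · intro hy
          have h5 := hcY _ hy
          have h6 : y = x * y * x⁻¹ := by
            have h7 : x * (x * y * x⁻¹) * x⁻¹ = x * y * x⁻¹ := by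
              rw [h5.eq]
              group
            have h8 : x * (x * y * x⁻¹) * x⁻¹ = x * (x * y * x⁻¹ * x⁻¹) := by group
            rw [h8] at h7
            have h9 : x * y * x⁻¹ * x⁻¹ = y * x⁻¹ := by
              have := mul_left_cancel (a := x) (b := x * y * x⁻¹ * x⁻¹) (c := y * x⁻¹)
                (by rw [h7]; group)
              exact this
            have h10 : x * y * x⁻¹ = y := mul_right_cancel h9
            exact h10.symm
          rwa [h6]
      exact Q.isPGroup'.sylow_mem_fixedPoints_iff.1 h4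
    have := Q.is_maximal' P₂.isPGroup' hle
    exact Sylow.ext this.symm

end Cfsg.Agent.Lib.InvCent
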